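import Groth.Agent.Lib.ExcP1.Elim

/-!
# Applications: ideals supported at finitely many points, ideals on regular surfaces
-/

universe u

set_option backward.isDefEq.respectTransparency false
set_option linter.all false

open AlgebraicGeometry CategoryTheory CategoryTheory.Limits TopologicalSpace Opposite IsLocalRing
open GrothLib.CartierDescent
open Models (IsContractionSeq)

noncomputable section

namespace GrothLib.ExcP1

variable {X : Scheme.{u}}

theorem exists_seq_making_cartier [IsNoetherian X] (I : X.IdealSheafData) {T : Set X} (hT : IsClosed T)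
    (hbT : bad I ⊆ T) (hfin : (bad I).Finite)
    (hgood : ∀ x ∈ bad I, IsRegularLocalRing (X.presheaf.stalk x) ∧ ringKrullDim (X.presheaf.stalk x) = 2 ∧
      nuAt I x ≠ ⊤) :
    ∃ (X' : Scheme.{u}) (g : X' ⟶ X), IsContractionSeq g ∧ IsIso (g ∣_ (⟨Tᶜ, hT.isOpen_compl⟩ : X.Opens)) ∧
      _root_.BlowUp.IsEffCartierIdeal (I.comap g) := by
  classical
  let n := hfin.toFinset.sup fun x => (nuAt I x).toNat
  refine exists_seq_of_bound n _ X I T hT hbT hfin (fun x hx => ?_) le_rfl
  obtain ⟨h1, h2, h3⟩ := hgood x hx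
  refine ⟨h1, h2, ?_⟩
  rw [← ENat.natCast_toNat h3]
  exact (Nat.cast_le (α := ℕ∞)).2 (Finset.le_sup (f := fun x => (nuAt I x).toNat) (hfin.mem_toFinset.2 hx))

/-- An ideal supported on finitely many closed points has finite residual colength. -/
theorem nuAt_ne_top_of_support [IsNoetherian X] (I : X.IdealSheafData) {T : Set X}
    (hTc : ∀ t ∈ T, IsClosed ({t} : Set X)) (hI : (I.support : Set X) ⊆ T) {x : X} (hx : x ∈ T) :
    nuAt I x ≠ ⊤ := by
  let R := X.presheaf.stalk x
  haveI : IsNoetherianRing R := inferInstance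
  refine ne_top_of_le_ne_top (length_ne_top_of_primes_maximal (K := stalkIdeal I x) fun P hP hKP => ?_)
    (nu_le (γ := 1) (one_mem _) (by rw [Ideal.span_singleton_one, Ideal.top_mul]))
  let p : Spec (X.presheaf.stalk x) := ⟨P, hP⟩
  have h1 : stalkIdeal (I.comap (X.fromSpecStalk x)) p ≠ ⊤ := by
    rw [stalkIdeal_comap_fromSpecStalk]
    let κ : Algebra R ((Spec (X.presheaf.stalk x)).presheaf.stalk p) := StructureSheaf.stalkAlgebra _ p
    haveI := hP
    haveI : IsLocalization.AtPrime ((Spec (X.presheaf.stalk x)).presheaf.stalk p) P :=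
      StructureSheaf.IsLocalization.to_stalk _ p
    intro h
    have h2 : P.map (algebraMap R ((Spec (X.presheaf.stalk x)).presheaf.stalk p)) = ⊤ :=
      top_le_iff.1 (h.ge.trans (Ideal.map_mono hKP))
    rw [IsLocalization.AtPrime.map_eq_maximalIdeal P] at h2
    exact (maximalIdeal.isMaximal _).ne_top h2
  have h2 : X.fromSpecStalk x p ∈ (I.support : Set X) := by
    have h := not_not.1 (mt (stalkIdeal_eq_top_iff _ p).2 h1)
    have h' : p ∈ ((I.comap (X.fromSpecStalk x)).support : Set _) := h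
    simp only [Scheme.IdealSheafData.support_comap] at h'
    exact h'
  have hspec : X.fromSpecStalk x p ⤳ x := by
    have := Set.mem_range_self (f := X.fromSpecStalk x) p
    rwa [Scheme.range_fromSpecStalk] at this
  have h3 : X.fromSpecStalk x p = X.fromSpecStalk x (closedPoint R) := by
    rw [Scheme.fromSpecStalk_closedPoint]
    exact (Set.mem_singleton_iff.1 (hspec.mem_closed (hTc _ (hI h2)) rfl)).symm
  have h4 : P = maximalIdeal R := congrArg PrimeSpectrum.asIdeal ((X.fromSpecStalk x).isEmbedding.injective h3)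
  rw [h4]
  exact maximalIdeal.isMaximal R

theorem exists_seq_of_finite_support [IsNoetherian X] (T : Set X) (hTf : T.Finite) (hTc : IsClosed T)
    (hT : ∀ x ∈ T, IsClosed ({x} : Set X) ∧ IsRegularLocalRing (X.presheaf.stalk x) ∧
      ringKrullDim (X.presheaf.stalk x) = 2)
    (I : X.IdealSheafData) (hI : (I.support : Set X) ⊆ T) :
    ∃ (X' : Scheme.{u}) (g : X' ⟶ X), IsContractionSeq g ∧ IsIso (g ∣_ (⟨Tᶜ, hTc.isOpen_compl⟩ : X.Opens)) ∧
      _root_.BlowUp.IsEffCartierIdeal (I.comap g) := by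
  have hb : bad I ⊆ T := fun x hx => by
    by_contra hxT
    refine hx.2 ?_
    rw [nuAt, (stalkIdeal_eq_top_iff I x).2 fun h => hxT (hI h)]
    exact nu_top
  exact exists_seq_making_cartier I hTc hb (hTf.subset hb) fun x hx =>
    ⟨(hT x (hb hx)).2.1, (hT x (hb hx)).2.2, nuAt_ne_top_of_support I (fun t ht => (hT t ht).1) hI (hb hx)⟩

section Integral

variable [IsIntegral X] {I : X.IdealSheafData} (hI : I ≠ ⊥)

include hI in
theorem stalkIdeal_ne_bot (x : X) : stalkIdeal I x ≠ ⊥ := by
  intro h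
  have hη : stalkIdeal I (genericPoint X) = ⊥ := by
    rw [← stalkIdeal_map_specializes I (genericPoint_specializes x), h, Ideal.map_bot]
  refine hI (Scheme.IdealSheafData.ext (funext fun V => ?_))
  rw [Scheme.IdealSheafData.ideal_bot]
  refine (Submodule.eq_bot_iff _).2 fun s hs => ?_
  by_cases hV : (V.1 : Set X).Nonempty
  · obtain ⟨w, hw⟩ := hV
    have hηV : genericPoint X ∈ V.1 := (genericPoint_specializes w).mem_open V.1.2 hw
    have h1 : X.presheaf.germ V.1 (genericPoint X) hηV s ∈ stalkIdeal I (genericPoint X) := by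
      rw [stalkIdeal_eq I V hηV]
      exact Ideal.mem_map_of_mem _ hs
    rw [hη, Ideal.mem_bot] at h1
    exact germ_injective_of_isIntegral X _ hηV (h1.trans (map_zero _).symm)
  · haveI : Subsingleton Γ(X, V.1) := by
      have hb : V.1 = ⊥ := Opens.ext (Set.not_nonempty_iff_eq_empty.1 hV)
      rw [hb]
      infer_instance
    exact Subsingleton.elim _ _

variable [IsNoetherian X] (hreg : ∀ x : X, IsRegularLocalRing (X.presheaf.stalk x))
  (hdim : topologicalKrullDim X ≤ 2)

include hdim in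
theorem ringKrullDim_stalk_le (x : X) : ringKrullDim (X.presheaf.stalk x) ≤ 2 := by
  refine le_trans ?_ hdim
  rw [← PrimeSpectrum.topologicalKrullDim_eq_ringKrullDim]
  exact (X.fromSpecStalk x).isEmbedding.isInducing.topologicalKrullDim_le

include hI hreg hdim in
theorem nuAt_ne_top_of_surface (x : X) : nuAt I x ≠ ⊤ := by
  haveI := hreg x
  exact nu_ne_top (ringKrullDim_stalk_le hdim x) (stalkIdeal_ne_bot hI x)

include hI hreg hdim in
theorem nuAt_eq_zero_of_nonclosed {x : X} (hx : ¬ IsClosed ({x} : Set X)) : nuAt I x = 0 := by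
  obtain ⟨c, hxc, hc⟩ := GrothLib.ArSurf29.exists_isClosed_specialization x
  let R := X.presheaf.stalk c
  haveI : IsRegularLocalRing R := hreg c
  obtain ⟨γ, K, hγ, hJ, hK⟩ := exists_of_nu_ne_top (nuAt_ne_top_of_surface hI hreg hdim c)
  obtain ⟨p, rfl⟩ : x ∈ Set.range (X.fromSpecStalk c) := by
    rw [Scheme.range_fromSpecStalk]; exact hxc
  haveI : IsIso ((X.fromSpecStalk c).stalkMap p) :=
    GrothLib.ArSurf29.isIso_stalkMap_of_flat_preimmersion (X.fromSpecStalk c) p
  rw [← nuAt_comap I (X.fromSpecStalk c) p, nuAt, stalkIdeal_comap_fromSpecStalk, hJ, Ideal.map_mul, Ideal.map_span,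
    Set.image_singleton]
  let κ : Algebra R ((Spec (X.presheaf.stalk c)).presheaf.stalk p) := StructureSheaf.stalkAlgebra _ p
  haveI : IsLocalization.AtPrime ((Spec (X.presheaf.stalk c)).presheaf.stalk p) p.asIdeal :=
    StructureSheaf.IsLocalization.to_stalk _ p
  have hne : ¬ K ≤ p.asIdeal := fun hle => hx (by
    have hfl : Module.length R (R ⧸ K) ≠ ⊤ := by rw [hK]; exact nuAt_ne_top_of_surface hI hreg hdim c
    rw [Module.length_ne_top_iff, isFiniteLength_iff_isNoetherian_isArtinian] at hfl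
    haveI := hfl.2
    haveI : IsArtinianRing (R ⧸ K) := isArtinian_of_tower R hfl.2
    haveI : (p.asIdeal.map (Ideal.Quotient.mk K)).IsPrime :=
      Ideal.map_isPrime_of_surjective Ideal.Quotient.mk_surjective (by rw [Ideal.mk_ker]; exact hle)
    haveI := IsArtinianRing.isMaximal_of_isPrime (p.asIdeal.map (Ideal.Quotient.mk K))
    haveI hpm : p.asIdeal.IsMaximal := by
      rw [← Ideal.comap_map_mk hle]
      exact Ideal.comap_isMaximal_of_surjective _ Ideal.Quotient.mk_surjective
    rw [show p = closedPoint R from PrimeSpectrum.ext (IsLocalRing.eq_maximalIdeal hpm),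
      Scheme.fromSpecStalk_closedPoint]
    exact hc)
  obtain ⟨z, hzK, hzp⟩ := SetLike.not_le_iff_exists.1 hne
  have htop : K.map (StructureSheaf.toStalk (X.presheaf.stalk c) p).hom = ⊤ :=
    Ideal.eq_top_of_isUnit_mem _ (Ideal.mem_map_of_mem _ hzK)
      (IsLocalization.map_units ((Spec (X.presheaf.stalk c)).presheaf.stalk p) (⟨z, hzp⟩ : p.asIdeal.primeCompl))
  rw [htop, Ideal.mul_top]
  refine nu_eq_zero_of_span (GrothLib.BlowUp.mem_nonZeroDivisors_of_flat _ ?_ hγ) rfl
  exact RingHom.flat_algebraMap_iff.2 (IsLocalization.flat _ p.asIdeal.primeCompl)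

include hI hreg hdim in
theorem finite_bad : (bad I).Finite := by
  let C : Set X := {x | ¬ ∃ W : X.affineOpens, x ∈ W.1 ∧
      ∃ f : Γ(X, W.1), f ∈ nonZeroDivisors Γ(X, W.1) ∧ I.ideal W = Ideal.span {f}}
  have hC : IsClosed C := by
    rw [← isOpen_compl_iff, isOpen_iff_forall_mem_open]
    intro x hx
    obtain ⟨W, hxW, hW⟩ := not_not.1 hx
    exact ⟨W.1, fun y hy hyC => hyC ⟨W, hy, hW⟩, W.1.2, hxW⟩
  have hCc : ∀ x ∈ C, IsClosed ({x} : Set X) := fun x hx => by
    by_contra h
    exact hx (exists_cartier_nhd I (nuAt_eq_zero_of_nonclosed hI hreg hdim h))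
  have hsub : bad I ⊆ C := fun x hx ⟨W, hxW, f, hf, hfW⟩ => hx.2 (by
    letI := TopCat.Presheaf.algebra_section_stalk X.presheaf (⟨x, hxW⟩ : W.1)
    haveI := W.2.isLocalization_stalk ⟨x, hxW⟩
    rw [nuAt, stalkIdeal_eq I W hxW, hfW, Ideal.map_span, Set.image_singleton]
    refine nu_eq_zero_of_span (GrothLib.BlowUp.mem_nonZeroDivisors_of_flat
      (algebraMap Γ(X, W.1) (X.presheaf.stalk x)) ?_ hf) rfl
    exact RingHom.flat_algebraMap_iff.2 (IsLocalization.flat _ (W.2.primeIdealOf ⟨x, hxW⟩).asIdeal.primeCompl))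
  refine Set.Finite.subset ?_ hsub
  obtain ⟨S, hS, hSirr, hScl, hcov⟩ := NoetherianSpace.exists_finite_set_isClosed_irreducible hC
  choose η hη using fun D : S => QuasiSober.sober (hScl D D.2) (hSirr D D.2)
  haveI := hS.to_subtype
  refine (Set.finite_range η).subset fun y hy => ?_
  obtain ⟨D, hD, hyD⟩ := (hcov ▸ hy : y ∈ ⋃₀ S)
  have hCη : η ⟨D, hD⟩ ∈ C := hcov.ge (Set.mem_sUnion_of_mem (hη ⟨D, hD⟩).mem hD)
  exact ⟨⟨D, hD⟩, (Set.mem_singleton_iff.1 (((hη ⟨D, hD⟩).specializes hyD).mem_closed (hCc _ hCη) rfl)).symm⟩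

include hI hreg hdim in
theorem ringKrullDim_eq_two_of_bad {x : X} (hx : x ∈ bad I) : ringKrullDim (X.presheaf.stalk x) = 2 := by
  let R := X.presheaf.stalk x
  haveI : IsRegularLocalRing R := hreg x
  haveI : IsDomain R := GrothLib.CMFree.isDomain_of_isRegularLocalRing R
  refine le_antisymm (ringKrullDim_stalk_le hdim x) ?_
  by_contra h
  have h1 : (maximalIdeal R).spanFinrank ≤ 1 := by
    have e := IsRegularLocalRing.spanFinrank_maximalIdeal (R := R)
    have h2 : ((maximalIdeal R).spanFinrank : WithBot ℕ∞) < (2 : ℕ) := by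
      rw [e]; exact not_le.1 h
    have : (maximalIdeal R).spanFinrank < 2 := by exact_mod_cast h2
    omega
  have hP : (maximalIdeal R).IsPrincipal := by
    rcases (by omega : (maximalIdeal R).spanFinrank = 0 ∨ (maximalIdeal R).spanFinrank = 1) with h0 | h1'
    · rw [(Submodule.spanFinrank_eq_zero_iff_eq_bot (IsNoetherian.noetherian _)).1 h0]
      infer_instance
    · exact ((Submodule.spanFinrank_eq_one_iff _).1 h1').1
  have hd : ringKrullDim R ≤ 1 := by
    rw [← IsRegularLocalRing.spanFinrank_maximalIdeal (R := R)]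
    exact_mod_cast h1
  haveI : IsPrincipalIdealRing R := IsPrincipalIdealRing.of_prime fun P hP' => by
    haveI := hP'
    by_cases hP0 : P = ⊥
    · rw [hP0]; infer_instance
    rcases eq_or_lt_of_le (le_maximalIdeal hP'.ne_top) with he | hlt
    · rw [he]; exact hP
    exfalso
    rw [← IsLocalRing.maximalIdeal_height_eq_ringKrullDim] at hd
    have h3 : (maximalIdeal R).height ≤ 1 := WithBot.coe_le_coe.1 hd
    have h4 : P.height + 1 ≤ 0 + 1 := (Ideal.height_add_one_le_of_lt_of_isPrime hlt).trans (h3.trans_eq (by simp))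
    have h5 := nonpos_iff_eq_zero.1 ((ENat.add_le_add_iff_right (by simp)).1 h4)
    rw [Ideal.height_eq_zero_iff, IsDomain.minimalPrimes_eq_singleton_bot] at h5
    exact hP0 h5
  obtain ⟨g, hg⟩ := (IsPrincipalIdealRing.principal (stalkIdeal I x)).principal
  refine hx.2 (nu_eq_zero_of_span (γ := g) (mem_nonZeroDivisors_of_ne_zero fun h0 => ?_) hg)
  exact stalkIdeal_ne_bot hI x (by rw [hg, h0]; simp)

include hI hreg hdim in
theorem exists_seq_surface : ∃ (X' : Scheme.{u}) (g : X' ⟶ X), IsContractionSeq g ∧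
    _root_.BlowUp.IsEffCartierIdeal (I.comap g) := by
  obtain ⟨X', g, h1, -, h2⟩ := exists_seq_making_cartier I isClosed_univ (Set.subset_univ _)
    (finite_bad hI hreg hdim) fun x hx =>
      ⟨hreg x, ringKrullDim_eq_two_of_bad hI hreg hdim hx, nuAt_ne_top_of_surface hI hreg hdim x⟩
  exact ⟨X', g, h1, h2⟩

end Integral

end GrothLib.ExcP1
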