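import Groth.Agent.Lib.ExcP1.Seq
import Groth.Agent.Lib.Nagata6.UnionData
import Groth.Agent.Lib.CurveMult.GenusZero
import Groth.Agent.S10829

/-!
# Proper birational morphisms of regular surfaces are composites of point blow-ups
-/

universe u

set_option backward.isDefEq.respectTransparency false
set_option linter.all false

open AlgebraicGeometry CategoryTheory CategoryTheory.Limits TopologicalSpace Opposite IsLocalRing

noncomputable section

namespace GrothLib.ExcP1

variable {X : Scheme.{u}} [IsIntegral X] [IsNoetherian X]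

/-- A proper birational morphism from a regular surface to a regular scheme is a composite of point blow-ups. -/
theorem isContractionSeq_of_birational (hX : ∀ x : X, IsRegularLocalRing (X.presheaf.stalk x))
    (hdim : topologicalKrullDim X ≤ 2) : ∀ (N : ℕ) {Y : Scheme.{u}} [IsIntegral Y] [IsNoetherian Y]
      (hY : ∀ y : Y, IsRegularLocalRing (Y.presheaf.stalk y)) (f : X ⟶ Y) [IsProper f] (V : Y.Opens)
      (hV : (V : Set Y).Nonempty) (hiso : IsIso (f ∣_ V)), (curvesOver f).ncard ≤ N →
      Models.IsContractionSeq f := by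
  intro N
  induction N using Nat.strong_induction_on with
  | _ N ih =>
    intro Y _ _ hY f _ V hV hiso hN
    haveI := hiso
    have hNY : ∀ y, IsIntegrallyClosed (Y.presheaf.stalk y) := fun y => by
      haveI := hY y
      exact RegLoc.isIntegrallyClosed_of_isRegularLocalRing _
    by_cases h0 : curvesOver f = ∅
    · haveI := isIso_of_no_curves hdim V hV hNY h0
      exact Models.IsContractionSeq.iso (asIso f)
    obtain ⟨x, hx⟩ := Set.nonempty_iff_ne_empty.2 h0
    obtain ⟨y, hfx⟩ : ∃ y, f x = y := ⟨_, rfl⟩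
    have hy : IsClosed ({y} : Set Y) := hfx ▸ hx.2
    have hyV : y ∉ V := hfx ▸ mem_curvesOver_notMem V hx
    obtain ⟨c, hxc, hc⟩ := GrothLib.ArSurf29.exists_isClosed_specialization x
    have hfc : f c = y := (hxc.map f.continuous).mem_closed hy hfx
    have hbig : ∃ x x' : X, x ≠ x' ∧ f x = y ∧ f x' = y := ⟨x, c, fun h => hx.1 (h ▸ hc), hfx, hfc⟩
    obtain ⟨e, hb⟩ := birational_of_iso_over (f := f) V hV
    have hηV : genericPoint Y ∈ V := by
      obtain ⟨w, hw⟩ := hV
      exact (genericPoint_specializes w).mem_open V.isOpen hw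
    have hsurj : Function.Surjective f := fun p => f.isClosedMap.isClosed_range.closure_subset_iff.2
      (Set.singleton_subset_iff.2 ⟨_, rfl⟩) (specializes_iff_mem_closure.1 (e.symm ▸ genericPoint_specializes p :
        f (genericPoint X) ⤳ p))
    have hYdim : topologicalKrullDim Y ≤ 2 :=
      (AlgSp.topologicalKrullDim_le_of_specializingMap f.continuous f.isClosedMap.specializingMap hsurj).trans hdim
    have hdimy : ringKrullDim (Y.presheaf.stalk y) ≤ 2 :=
      (GrothLib.Ref1.ringKrullDim_stalk_le_topologicalKrullDim y).trans hYdim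
    haveI := hY y
    haveI := CMFree.isDomain_of_isRegularLocalRing (Y.presheaf.stalk y)
    have hy0 : maximalIdeal (Y.presheaf.stalk y) ≠ ⊥ := by
      intro h0
      obtain ⟨q, hq⟩ : genericPoint Y ∈ Set.range (Y.fromSpecStalk y) := by
        rw [Scheme.range_fromSpecStalk]; exact genericPoint_specializes y
      haveI : Subsingleton (Spec (Y.presheaf.stalk y)) := ⟨fun a b => PrimeSpectrum.ext (by
        rw [eq_bot_iff.2 (h0 ▸ le_maximalIdeal a.isPrime.ne_top : a.asIdeal ≤ ⊥),
          eq_bot_iff.2 (h0 ▸ le_maximalIdeal b.isPrime.ne_top : b.asIdeal ≤ ⊥)])⟩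
      rw [Subsingleton.elim q (closedPoint _), Scheme.fromSpecStalk_closedPoint] at hq
      exact hyV (hq ▸ hηV)
    have hd : ringKrullDim (Y.presheaf.stalk y) = 2 := by
      by_contra hne
      have hsr := IsRegularLocalRing.spanFinrank_maximalIdeal (R := Y.presheaf.stalk y)
      obtain ⟨S, hScard, hspan⟩ := Submodule.FG.exists_span_finset_card_eq_spanFinrank
        (IsNoetherian.noetherian (maximalIdeal (Y.presheaf.stalk y)))
      have hle : S.card ≤ 1 := by
        rw [← hsr, ← hScard] at hdimy hne
        have h1 : S.card ≤ 2 := by exact_mod_cast hdimy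
        have h2 : S.card ≠ 2 := fun h => hne (by exact_mod_cast h)
        omega
      obtain ⟨γ, hγ⟩ : ∃ γ, maximalIdeal (Y.presheaf.stalk y) = Ideal.span {γ} := by
        rcases Finset.card_le_one_iff_subset_singleton.1 hle with ⟨γ, hγ⟩
        rcases Finset.subset_singleton_iff.1 hγ with h | h
        · exact absurd (hspan.symm.trans (by simp [h])) hy0
        · exact ⟨γ, hspan.symm.trans (by simp [h])⟩
      subst hfc
      haveI := hX c
      haveI := CMFree.isDomain_of_isRegularLocalRing (X.presheaf.stalk c)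
      obtain ⟨P, hP⟩ : x ∈ Set.range (X.fromSpecStalk c) := by
        rw [Scheme.range_fromSpecStalk]; exact hxc
      refine GrothLib.ArSurf29.maximalIdeal_ne_span_of_dominating X.functionField (f.stalkMap c).hom
        (GrothLib.ArSurf29.stalkMap_injective_birational f e hb c)
        (GrothLib.ArSurf29.exists_fraction_birational f e hb c) P.asIdeal (fun h => hx.1 ?_) ?_ hy0 γ hγ
      · rw [← hP, show P = closedPoint _ from PrimeSpectrum.ext h, Scheme.fromSpecStalk_closedPoint]
        exact hc
      · have h1 : Y.fromSpecStalk (f c) (Spec.map (f.stalkMap c) P) = Y.fromSpecStalk (f c) (closedPoint _) := by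
          rw [Scheme.fromSpecStalk_closedPoint, ← Scheme.Hom.comp_apply, Scheme.SpecMap_stalkMap_fromSpecStalk,
            Scheme.Hom.comp_apply, hP]
          exact hfx
        exact congrArg PrimeSpectrum.asIdeal ((Y.fromSpecStalk (f c)).isEmbedding.injective h1)
    set J := Scheme.IdealSheafData.vanishingIdeal ⟨{y}, hy⟩ with hJ
    have hcart := GrothLib.ArSurf29.isEffCartier_comap_point f e hb hX hdim hy hdimy hy0 hbig
    obtain ⟨Y', π, hπ⟩ := GrothLib.BlowUp.exists_isBlowUp Y J
    obtain ⟨g, hg, -⟩ := hπ.2 X f hcart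
    haveI : IsProper π := GrothLib.BlowUpProper.isProper_of_isBlowUp hπ
    haveI : IsLocallyNoetherian Y' := LocallyOfFiniteType.isLocallyNoetherian π
    haveI : CompactSpace Y' := QuasiCompact.compactSpace_of_compactSpace π
    haveI : IsNoetherian Y' := {}
    haveI : IsIntegral Y' := integral_of_blowUp hy hd hπ
    haveI : IsProper (g ≫ π) := by rw [hg]; infer_instance
    haveI : IsProper g := IsProper.of_comp g π
    let V₀ : Y.Opens := V ⊓ J.support.compl
    have hV₀ : genericPoint Y ∈ V₀ := by
      refine ⟨hηV, ?_⟩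
      show genericPoint Y ∉ (J.support : Set Y)
      rw [Scheme.IdealSheafData.coe_support_vanishingIdeal]
      exact fun h => hyV ((show genericPoint Y = y from h) ▸ hηV)
    haveI hf0 : IsIso (f ∣_ V₀) := GrothLib.Nagata6.isIso_restrict_of_le f V V₀ inf_le_left
    haveI := GrothLib.BlowUp.isIso_off_center hπ
    haveI hπ0 : IsIso (π ∣_ V₀) := GrothLib.Nagata6.isIso_restrict_of_le π J.support.compl V₀ inf_le_right
    have hg0 : IsIso (g ∣_ (π ⁻¹ᵁ V₀)) := by
      have key : ∀ k : X ⟶ Y, k = g ≫ π → IsIso (k ∣_ V₀) → IsIso (g ∣_ (π ⁻¹ᵁ V₀)) := by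
        rintro _ rfl h
        rw [morphismRestrict_comp] at h
        haveI := h
        exact IsIso.of_isIso_comp_right (g ∣_ (π ⁻¹ᵁ V₀)) (π ∣_ V₀)
      exact key f hg.symm hf0
    have hgπ : ∀ v, π (g v) = f v := fun v => by rw [← Scheme.Hom.comp_apply, hg]
    have hV₀' : ((π ⁻¹ᵁ V₀ : Y'.Opens) : Set Y').Nonempty :=
      ⟨g (genericPoint X), show π (g (genericPoint X)) ∈ V₀ by rw [hgπ, e]; exact hV₀⟩
    obtain ⟨eg, -⟩ := birational_of_iso_over (f := g) (π ⁻¹ᵁ V₀) hV₀'
    have hgsurj : Function.Surjective g := fun p => g.isClosedMap.isClosed_range.closure_subset_iff.2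
      (Set.singleton_subset_iff.2 ⟨_, rfl⟩) (specializes_iff_mem_closure.1 (eg.symm ▸ genericPoint_specializes p :
        g (genericPoint X) ⤳ p))
    obtain ⟨w, hwc, hwπ⟩ : ∃ w : Y', ¬ IsClosed ({w} : Set Y') ∧ π w = y := by
      set Ex := _root_.BlowUp.exceptional π J
      obtain ⟨ε, hε⟩ : ∃ ε : CohB1.ProjSpace 1 (Y.residueField y) ≅ Ex.subscheme,
          ε.hom ≫ Ex.subschemeι ≫ π =
            CohB1.ProjSpace.toSpec 1 (Y.residueField y) ≫ Y.fromSpecResidueField y := by
        obtain ⟨ε, hε, -⟩ := exists_iso_point hy hd hπ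
        exact ⟨ε, hε⟩
      haveI : IsIntegral (CohB1.ProjSpace 1 (Y.residueField y)) := ProjDim.isIntegral_proj _ 1
      haveI : IsClosedImmersion (ε.hom ≫ Ex.subschemeι) := inferInstance
      refine ⟨(ε.hom ≫ Ex.subschemeι) (genericPoint _), fun h => ?_, ?_⟩
      · refine CurvePoints.genericPoint_not_isClosed (X := CohB1.ProjSpace 1 (Y.residueField y))
          (by exact_mod_cast Groth.Agent.S10829.result (Y.residueField y) 1) ?_
        rw [(ε.hom ≫ Ex.subschemeι).isClosedEmbedding.isClosed_iff_image_isClosed, Set.image_singleton]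
        exact h
      · rw [← Scheme.Hom.comp_apply, Category.assoc, hε, Scheme.Hom.comp_apply]
        exact Scheme.fromSpecResidueField_apply y _
    have hlt : (curvesOver g).ncard < N := by
      refine lt_of_lt_of_le (Set.ncard_lt_ncard ?_ (finite_curvesOver hdim V hV e)) hN
      refine ⟨fun v hv => ⟨hv.1, ?_⟩, fun hsub => ?_⟩
      · rw [← hgπ, ← Set.image_singleton]
        exact π.isClosedMap _ hv.2
      · obtain ⟨v, rfl⟩ := hgsurj w
        refine hwc (hsub (⟨fun h => hwc ?_, ?_⟩ : v ∈ curvesOver f)).2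
        · rw [← Set.image_singleton]
          exact g.isClosedMap _ h
        · rw [← hgπ, hwπ]
          exact hy
    have hseq := ih _ hlt (regular_of_blowUp hY hy hd hπ) g (π ⁻¹ᵁ V₀) hV₀' hg0 le_rfl
    rw [← hg]
    exact seq_trans hseq (seq_blowUp hy hd π hπ)

end GrothLib.ExcP1
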