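import Groth.Agent.Lib.ExcP1.Seq
import Groth.Agent.Lib.Depth.HartogsHom
import Groth.Agent.Lib.AlgSp.CartierCompl
import Groth.Agent.Lib.ArSurf29.Spread
import Groth.Agent.S10829

/-!
# The universal property of a point blow-up
-/

universe u

set_option backward.isDefEq.respectTransparency false
set_option linter.all false

open AlgebraicGeometry CategoryTheory CategoryTheory.Limits TopologicalSpace Opposite IsLocalRing

noncomputable section

namespace GrothLib.ExcP1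

/-- The depth of a regular local ring of dimension two is at least two. -/
theorem two_le_depth (A : Type u) [CommRing A] [IsRegularLocalRing A] (hA : ringKrullDim A = 2) :
    (2 : ℕ∞) ≤ LocCoh.depth A A := by
  obtain ⟨a, ha, haw⟩ := exists_regular_params A hA
  have hne : maximalIdeal A • (⊤ : Submodule A A) ≠ ⊤ := by
    rw [smul_eq_mul, Ideal.mul_top]
    exact (maximalIdeal.isMaximal A).ne_top
  unfold LocCoh.depth LocCoh.idealDepth
  rw [if_neg hne]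
  have hmem : ∀ r ∈ List.ofFn a, r ∈ maximalIdeal A := fun r hr => by
    obtain ⟨i, rfl⟩ := List.mem_ofFn.1 hr
    rw [← ha]
    exact Ideal.subset_span ⟨i, rfl⟩
  refine le_trans ?_ (le_iSup₂ (f := fun (l : List A) _ => (l.length : ℕ∞)) (List.ofFn a) ⟨haw, hmem⟩)
  simp

variable {X' Y : Scheme.{u}} [IsLocallyNoetherian X'] {y' : X'} (hy' : IsClosed ({y'} : Set X'))
  [IsRegularLocalRing (X'.presheaf.stalk y')] (hd : ringKrullDim (X'.presheaf.stalk y') = 2)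

/-- The complement of a closed point. -/
def punct : X'.Opens := ⟨{y'}ᶜ, hy'.isOpen_compl⟩

include hd in
theorem depthTwoOutside_punct (W : X'.Opens) :
    GrothLib.Depth.DepthTwoOutside (X := (W : Scheme.{u})) (W.ι ⁻¹ᵁ punct hy') := by
  intro w hw
  have hwy : W.ι w = y' := by
    by_contra h
    exact hw h
  subst hwy
  let e : X'.presheaf.stalk (W.ι w) ≃+* (W : Scheme.{u}).presheaf.stalk w :=
    (asIso (W.ι.stalkMap w)).commRingCatIsoToRingEquiv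
  haveI : IsRegularLocalRing ((W : Scheme.{u}).presheaf.stalk w) :=
    IsRegularLocalRing.of_ringEquiv (R := X'.presheaf.stalk (W.ι w)) e
  exact two_le_depth _ ((ringKrullDim_eq_of_ringEquiv e).symm.trans hd)

include hd in
/-- Morphisms landing in an affine open agree near a closed point of depth two if they agree off it. -/
theorem hom_ext_affine {V : Y.Opens} (hV : IsAffineOpen V) {W : X'.Opens} {f g : (W : Scheme.{u}) ⟶ Y}
    (hf : ∀ w, f w ∈ V) (hg : ∀ w, g w ∈ V)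
    (h : (W.ι ⁻¹ᵁ punct hy').ι ≫ f = (W.ι ⁻¹ᵁ punct hy').ι ≫ g) : f = g := by
  haveI : IsAffine (V : Scheme.{u}) := hV
  let f' := IsOpenImmersion.lift V.ι f (by rw [Scheme.Opens.range_ι]; rintro _ ⟨w, rfl⟩; exact hf w)
  let g' := IsOpenImmersion.lift V.ι g (by rw [Scheme.Opens.range_ι]; rintro _ ⟨w, rfl⟩; exact hg w)
  have e : f' = g' := by
    refine (GrothLib.Depth.existsUnique_extension (depthTwoOutside_punct hy' hd W)
      ((W.ι ⁻¹ᵁ punct hy').ι ≫ g')).unique ?_ rfl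
    rw [← cancel_mono V.ι, Category.assoc, Category.assoc, IsOpenImmersion.lift_fac, IsOpenImmersion.lift_fac, h]
  rw [← IsOpenImmersion.lift_fac V.ι f (by rw [Scheme.Opens.range_ι]; rintro _ ⟨w, rfl⟩; exact hf w),
    ← IsOpenImmersion.lift_fac V.ι g (by rw [Scheme.Opens.range_ι]; rintro _ ⟨w, rfl⟩; exact hg w)]
  exact congrArg (fun m => m ≫ V.ι) e

variable {X : Scheme.{u}} {b : X ⟶ X'}
  (hb : _root_.BlowUp.IsBlowUp b (Scheme.IdealSheafData.vanishingIdeal ⟨{y'}, hy'⟩))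

include hd hb in
/-- A morphism collapsing the exceptional fibre of a point blow-up factors uniquely through it. -/
theorem existsUnique_factor (φ : X ⟶ Y) (y : Y) (hne : ∃ x, b x = y') (hφ : ∀ x, b x = y' → φ x = y) :
    ∃! ψ : X' ⟶ Y, b ≫ ψ = φ := by
  set J := Scheme.IdealSheafData.vanishingIdeal ⟨{y'}, hy'⟩
  haveI : IsProper b := GrothLib.BlowUpProper.isProper_of_isBlowUp hb
  let U := punct hy'
  haveI hbU : IsIso (b ∣_ U) := by
    have e : U = J.support.compl := Opens.ext (by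
      show ({y'}ᶜ : Set X') = (J.support : Set X')ᶜ
      rw [Scheme.IdealSheafData.coe_support_vanishingIdeal]
      rfl)
    rw [e]
    exact GrothLib.BlowUp.isIso_off_center hb
  obtain ⟨V₀, hV, hyV⟩ : ∃ V : Y.Opens, IsAffineOpen V ∧ y ∈ V := by
    obtain ⟨_, ⟨V, hV, rfl⟩, hyV, -⟩ :=
      Y.isBasis_affineOpens.exists_subset_of_mem_open (Set.mem_univ y) isOpen_univ
    exact ⟨V, hV, hyV⟩
  let V : Y.Opens := V₀
  haveI : IsAffine (V : Scheme.{u}) := hV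
  let W : X'.Opens := ⟨(b '' (φ ⁻¹' (V : Set Y))ᶜ)ᶜ,
    (b.isClosedMap _ (V.isOpen.preimage φ.continuous).isClosed_compl).isOpen_compl⟩
  have hyW : y' ∈ W := by
    rintro ⟨x, hx, hxy⟩
    exact hx (show φ x ∈ (V : Set Y) from (hφ x hxy).symm ▸ hyV)
  have hWV : ∀ x, b x ∈ W → φ x ∈ V := fun x hx => by
    by_contra h
    exact hx ⟨x, h, rfl⟩
  let ψ₀ : (U : Scheme.{u}) ⟶ Y := inv (b ∣_ U) ≫ (b ⁻¹ᵁ U).ι ≫ φ
  have hψ₀ : (b ∣_ U) ≫ ψ₀ = (b ⁻¹ᵁ U).ι ≫ φ := by simp [ψ₀]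
  let U' : ((W : Scheme.{u})).Opens := W.ι ⁻¹ᵁ U
  let r : (U' : Scheme.{u}) ⟶ (U : Scheme.{u}) := W.ι ∣_ U
  have hr : r ≫ U.ι = U'.ι ≫ W.ι := morphismRestrict_ι _ _
  have hrV : ∀ w, (r ≫ ψ₀) w ∈ V := fun w => by
    obtain ⟨x, hx⟩ : ∃ x, (b ∣_ U) x = r w := ⟨(inv (b ∣_ U)) (r w), by
      rw [← Scheme.Hom.comp_apply, IsIso.inv_hom_id]; rfl⟩
    rw [Scheme.Hom.comp_apply, ← hx, ← Scheme.Hom.comp_apply, hψ₀, Scheme.Hom.comp_apply]
    refine hWV _ ?_
    rw [← Scheme.Hom.comp_apply, ← morphismRestrict_ι, Scheme.Hom.comp_apply, hx, ← Scheme.Hom.comp_apply, hr,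
      Scheme.Hom.comp_apply]
    exact (U'.ι w).2
  let f₁ : (U' : Scheme.{u}) ⟶ (V : Scheme.{u}) := IsOpenImmersion.lift V.ι (r ≫ ψ₀)
    (by rw [Scheme.Opens.range_ι]; rintro _ ⟨w, rfl⟩; exact hrV w)
  obtain ⟨g₁, hg₁, -⟩ := GrothLib.Depth.existsUnique_extension (depthTwoOutside_punct hy' hd W) f₁
  let 𝒰 : X'.OpenCover := X'.openCoverOfIsOpenCover (fun i : ULift.{u} Bool => if i.down then W else U) (by
    rw [TopologicalSpace.IsOpenCover, eq_top_iff]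
    intro x _
    by_cases h : x = y'
    · exact Opens.mem_iSup.2 ⟨⟨true⟩, h ▸ hyW⟩
    · exact Opens.mem_iSup.2 ⟨⟨false⟩, h⟩)
  have hagree : pullback.fst W.ι U.ι ≫ g₁ ≫ V.ι = pullback.snd W.ι U.ι ≫ ψ₀ := by
    let e : pullback W.ι U.ι ⟶ (U' : Scheme.{u}) := IsOpenImmersion.lift U'.ι (pullback.fst W.ι U.ι) (by
      rw [Scheme.Opens.range_ι]
      rintro _ ⟨w, rfl⟩
      show W.ι (pullback.fst W.ι U.ι w) ∈ U
      rw [← Scheme.Hom.comp_apply, pullback.condition, Scheme.Hom.comp_apply]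
      exact (pullback.snd W.ι U.ι w).2)
    have he : e ≫ U'.ι = pullback.fst W.ι U.ι := IsOpenImmersion.lift_fac _ _ _
    have he2 : e ≫ r = pullback.snd W.ι U.ι := by
      rw [← cancel_mono U.ι, Category.assoc, hr, reassoc_of% he, pullback.condition]
    rw [← he, Category.assoc, reassoc_of% hg₁, IsOpenImmersion.lift_fac, reassoc_of% he2]
  obtain ⟨ψ, hψW, hψU⟩ : ∃ ψ : X' ⟶ Y, W.ι ≫ ψ = g₁ ≫ V.ι ∧ U.ι ≫ ψ = ψ₀ := by
    have hWU : W ⊔ U = ⊤ := by
      rw [eq_top_iff]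
      intro x _
      by_cases h : x = y'
      · exact Or.inl (h ▸ hyW)
      · exact Or.inr h
    let m : ∀ i, 𝒰.X i ⟶ Y := fun i => match i with
      | ⟨true⟩ => g₁ ≫ V.ι
      | ⟨false⟩ => ψ₀
    refine ⟨𝒰.glueMorphisms m ?_, 𝒰.ι_glueMorphisms m ?_ ⟨true⟩, 𝒰.ι_glueMorphisms m ?_ ⟨false⟩⟩
    all_goals
      rintro ⟨i⟩ ⟨j⟩
      cases i <;> cases j
      · show pullback.fst U.ι U.ι ≫ ψ₀ = pullback.snd U.ι U.ι ≫ ψ₀
        rw [fst_eq_snd_of_mono_eq U.ι]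
      · show pullback.fst U.ι W.ι ≫ ψ₀ = pullback.snd U.ι W.ι ≫ g₁ ≫ V.ι
        rw [← cancel_epi (pullbackSymmetry W.ι U.ι).hom, pullbackSymmetry_hom_comp_fst_assoc,
          pullbackSymmetry_hom_comp_snd_assoc]
        exact hagree.symm
      · exact hagree
      · show pullback.fst W.ι W.ι ≫ g₁ ≫ V.ι = pullback.snd W.ι W.ι ≫ g₁ ≫ V.ι
        rw [fst_eq_snd_of_mono_eq W.ι]
  -- the factorisation holds
  have hfac : b ≫ ψ = φ := by
    refine (X.openCoverOfIsOpenCover (fun i : ULift.{u} Bool => if i.down then b ⁻¹ᵁ W else b ⁻¹ᵁ U) (by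
      rw [TopologicalSpace.IsOpenCover, eq_top_iff]
      intro x _
      by_cases h : b x = y'
      · exact Opens.mem_iSup.2 ⟨⟨true⟩, show b x ∈ W from h ▸ hyW⟩
      · exact Opens.mem_iSup.2 ⟨⟨false⟩, h⟩)).hom_ext _ _ ?_
    rintro ⟨i⟩
    cases i
    · show (b ⁻¹ᵁ U).ι ≫ b ≫ ψ = (b ⁻¹ᵁ U).ι ≫ φ
      rw [← morphismRestrict_ι_assoc, hψU, hψ₀]
    · show (b ⁻¹ᵁ W).ι ≫ b ≫ ψ = (b ⁻¹ᵁ W).ι ≫ φ
      let Z : ((b ⁻¹ᵁ W : X.Opens) : Scheme.{u}).Opens := (b ⁻¹ᵁ W).ι ⁻¹ᵁ (b ⁻¹ᵁ U)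
      let K := (J.comap b).comap (b ⁻¹ᵁ W).ι
      have hK : _root_.BlowUp.IsEffCartierIdeal K := GrothLib.BlowUp.isEffCartierIdeal_comap_of_flat _ hb.1
      have hZ : (Z : Set ↥((b ⁻¹ᵁ W : X.Opens) : Scheme.{u})) = (K.support : Set ↥((b ⁻¹ᵁ W : X.Opens) : Scheme.{u}))ᶜ := by
        ext w
        simp only [K, Scheme.IdealSheafData.support_comap]
        show b ((b ⁻¹ᵁ W).ι w) ∈ U ↔ b ((b ⁻¹ᵁ W).ι w) ∉ (J.support : Set X')
        rw [Scheme.IdealSheafData.coe_support_vanishingIdeal]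
        rfl
      haveI : IsAffineHom Z.ι := GrothLib.AlgSp.isAffineHom_compl (fun x hx => by
        obtain ⟨V', hV', f, -, hf⟩ := hK x
        exact ⟨V', hV', f, hf⟩) hZ
      haveI : IsSchemeTheoreticallyDominant Z.ι := ⟨(GrothLib.AlgSp.isSchematicallyDense_iff_ker Z).1 (GrothLib.AlgSp.isSchematicallyDense_compl hK hZ)⟩
      have h1 : ∀ w, ((b ⁻¹ᵁ W).ι ≫ b ≫ ψ) w ∈ V := fun w => by
        rw [← morphismRestrict_ι_assoc, hψW, ← Category.assoc, Scheme.Hom.comp_apply]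
        exact ((((b ∣_ W) ≫ g₁) w)).2
      have h2 : ∀ w, ((b ⁻¹ᵁ W).ι ≫ φ) w ∈ V := fun w => hWV _ (show b ((b ⁻¹ᵁ W).ι w) ∈ W from w.2)
      rw [← IsOpenImmersion.lift_fac V.ι ((b ⁻¹ᵁ W).ι ≫ b ≫ ψ) (by rw [Scheme.Opens.range_ι]; rintro _ ⟨w, rfl⟩; exact h1 w),
        ← IsOpenImmersion.lift_fac V.ι ((b ⁻¹ᵁ W).ι ≫ φ) (by rw [Scheme.Opens.range_ι]; rintro _ ⟨w, rfl⟩; exact h2 w)]
      refine congrArg (fun m => m ≫ V.ι) (ext_of_isAffine (CommRingCat.hom_ext (RingHom.ext fun c => Z.ι.app_injective ⊤ ?_)))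
      suffices hh : Z.ι ≫ _ = Z.ι ≫ _ from congr(($(congrArg Scheme.Hom.appTop hh)).hom c)
      rw [← cancel_mono V.ι]
      simp only [Category.assoc, IsOpenImmersion.lift_fac]
      let e : (Z : Scheme.{u}) ⟶ ((b ⁻¹ᵁ U : X.Opens) : Scheme.{u}) := (b ⁻¹ᵁ W).ι ∣_ (b ⁻¹ᵁ U)
      have he : e ≫ (b ⁻¹ᵁ U).ι = Z.ι ≫ (b ⁻¹ᵁ W).ι := morphismRestrict_ι _ _
      rw [← reassoc_of% he, ← reassoc_of% he, ← morphismRestrict_ι_assoc, hψU, hψ₀]
  refine ⟨ψ, hfac, fun ψ' hψ' => ?_⟩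
  have hU' : U.ι ≫ ψ' = ψ₀ := by
    rw [← cancel_epi (b ∣_ U), morphismRestrict_ι_assoc, hψ', hψ₀]
  obtain ⟨x₀, hx₀⟩ := hne
  have hy'V : ψ' y' ∈ V := by
    rw [← hx₀, ← Scheme.Hom.comp_apply, hψ', hφ x₀ hx₀]
    exact hyV
  have hyV2 : ψ y' ∈ V := by
    rw [← hx₀, ← Scheme.Hom.comp_apply, hfac, hφ x₀ hx₀]
    exact hyV
  let W' : X'.Opens := ψ ⁻¹ᵁ V ⊓ ψ' ⁻¹ᵁ V
  have hW' : W'.ι ≫ ψ' = W'.ι ≫ ψ := by
    refine hom_ext_affine hy' hd hV (W := W') (fun w => w.2.2) (fun w => w.2.1) ?_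
    have h := morphismRestrict_ι W'.ι U
    rw [← reassoc_of% h, ← reassoc_of% h, hU', hψU]
  refine (X'.openCoverOfIsOpenCover (fun i : ULift.{u} Bool => if i.down then W' else U) (by
    rw [TopologicalSpace.IsOpenCover, eq_top_iff]
    intro x _
    by_cases h : x = y'
    · exact Opens.mem_iSup.2 ⟨⟨true⟩, h ▸ ⟨hyV2, hy'V⟩⟩
    · exact Opens.mem_iSup.2 ⟨⟨false⟩, h⟩)).hom_ext _ _ ?_
  rintro ⟨i⟩
  cases i
  · exact hU'.trans hψU.symm
  · exact hW'

omit [IsLocallyNoetherian X'] [IsRegularLocalRing (X'.presheaf.stalk y')] in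
/-- The projective line has a point which is not its generic point, and is one-dimensional. -/
theorem exists_ne_genericPoint (k : Type u) [Field k] [IsIntegral (CohB1.ProjSpace 1 k)] :
    ∃ c : CohB1.ProjSpace 1 k, c ≠ genericPoint (CohB1.ProjSpace 1 k) := by
  by_contra h
  push Not at h
  haveI : Subsingleton ↥(CohB1.ProjSpace 1 k) := ⟨fun a b => (h a).trans (h b).symm⟩
  have h1 := Groth.Agent.S10829.result k 1
  haveI : Subsingleton (IrreducibleCloseds ↥(CohB1.ProjSpace 1 k)) := ⟨fun A B => by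
    obtain ⟨a, ha⟩ := A.isIrreducible.nonempty
    obtain ⟨c, hc⟩ := B.isIrreducible.nonempty
    refine IrreducibleCloseds.ext (Set.ext fun x => ?_)
    exact ⟨fun _ => (Subsingleton.elim c x) ▸ hc, fun _ => (Subsingleton.elim a x) ▸ ha⟩⟩
  have h2 : topologicalKrullDim ↥(CohB1.ProjSpace 1 k) ≤ 0 := Order.krullDim_nonpos_of_subsingleton
  rw [h1] at h2
  norm_num at h2

include hd hb in
/-- A curve contracted to the point is the whole exceptional fibre. -/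
theorem range_eq_fibre {E : Scheme.{u}} (ι : E ⟶ X) [IsClosedImmersion ι] (k : Type u) [Field k]
    (e : CohB1.ProjSpace 1 k ≅ E) (hE : Set.range (ι ≫ b).base = {y'}) : Set.range ι = b ⁻¹' {y'} := by
  set J := Scheme.IdealSheafData.vanishingIdeal ⟨{y'}, hy'⟩
  obtain ⟨eF, -, -⟩ := exists_iso_point hy' hd hb
  haveI : IsIntegral (CohB1.ProjSpace 1 (X'.residueField y')) := ProjDim.isIntegral_proj _ 1
  haveI : IsIntegral (CohB1.ProjSpace 1 k) := ProjDim.isIntegral_proj _ 1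
  let Ex := _root_.BlowUp.exceptional b J
  let j : CohB1.ProjSpace 1 (X'.residueField y') ⟶ X := eF.hom ≫ Ex.subschemeι
  have hjr : Set.range j = b ⁻¹' {y'} := by
    have h1 : Set.range Ex.subschemeι = b ⁻¹' {y'} := by
      rw [Scheme.IdealSheafData.range_subschemeι]
      simp only [Ex, _root_.BlowUp.exceptional, Scheme.IdealSheafData.support_comap]
      show b ⁻¹' (J.support : Set X') = _
      rw [Scheme.IdealSheafData.coe_support_vanishingIdeal]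
      rfl
    rw [← h1]
    refine Set.Subset.antisymm (by rintro _ ⟨w, rfl⟩; exact ⟨_, rfl⟩) ?_
    rintro _ ⟨w, rfl⟩
    refine ⟨eF.inv w, ?_⟩
    rw [← Scheme.Hom.comp_apply, Iso.inv_hom_id_assoc]
  let i : CohB1.ProjSpace 1 k ⟶ X := e.hom ≫ ι
  have hir : Set.range i = Set.range ι := by
    refine Set.Subset.antisymm (by rintro _ ⟨w, rfl⟩; exact ⟨_, rfl⟩) ?_
    rintro _ ⟨w, rfl⟩
    refine ⟨e.inv w, ?_⟩
    rw [← Scheme.Hom.comp_apply, Iso.inv_hom_id_assoc]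
  haveI : IsClosedImmersion i := inferInstanceAs (IsClosedImmersion (e.hom ≫ ι))
  haveI : IsClosedImmersion j := inferInstanceAs (IsClosedImmersion (eF.hom ≫ Ex.subschemeι))
  have hsub : Set.range i ⊆ Set.range j := by
    rw [hjr, hir]
    rintro _ ⟨w, rfl⟩
    exact hE.le ⟨w, rfl⟩
  rw [← hir, ← hjr]
  refine hsub.antisymm ?_
  obtain ⟨c, hc⟩ := exists_ne_genericPoint k
  obtain ⟨p, hp⟩ := hsub ⟨genericPoint _, rfl⟩
  obtain ⟨q, hq⟩ := hsub ⟨c, rfl⟩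
  have hpη : p = genericPoint _ := by
    by_contra hne
    have hpq : p ⤳ q := j.isEmbedding.isInducing.specializes_iff.1 (by
      rw [hp, hq]; exact (genericPoint_specializes c).map i.continuous)
    have hne2 : p ≠ q := fun h => hc (i.isEmbedding.injective (by rw [← hp, ← hq, h]))
    have h2 := GrothLib.ArSurf29.two_le_dim (genericPoint_specializes p) hpq (Ne.symm hne) hne2
    rw [Groth.Agent.S10829.result] at h2
    norm_num at h2
  rintro _ ⟨w, rfl⟩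
  refine (((genericPoint_specializes w).map j.continuous).mem_closed i.isClosedEmbedding.isClosed_range ?_)
  exact ⟨genericPoint _, by rw [← hp, hpη]⟩

end GrothLib.ExcP1
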