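import Groth.Agent.Lib.BlowUp17.RegularAlg
import Mathlib.RingTheory.Length
import Mathlib.RingTheory.HopkinsLevitzki
import Mathlib.RingTheory.Nakayama

/-!
# The colength drops in the charts of the blow-up of a point of a surface
-/

universe u

set_option backward.isDefEq.respectTransparency false
set_option linter.all false

open IsLocalRing MvPolynomial
open GrothLib.BlowUp17

noncomputable section

namespace GrothLib.ExcP1

/-- Powers of an ideal with two generators. -/
theorem exists_coeff_of_mem_pow {A : Type u} [CommRing A] (p q : A) : ∀ (d : ℕ) {f : A},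
    f ∈ Ideal.span {p, q} ^ d → ∃ c : Fin (d + 1) → A, f = ∑ j, c j * (p ^ (d - j.1) * q ^ j.1) := by
  intro d f hf
  have hle : ∀ d : ℕ, Ideal.span {p, q} ^ d ≤ Ideal.span (Set.range fun j : Fin (d + 1) => p ^ (d - j.1) * q ^ j.1) := by
    intro d
    induction d with
    | zero =>
      rw [pow_zero, Ideal.one_eq_top]
      intro z _
      rw [show (Ideal.span (Set.range fun j : Fin (0 + 1) => p ^ (0 - j.1) * q ^ j.1)) = ⊤ from
        Ideal.eq_top_of_isUnit_mem _ (Ideal.subset_span ⟨0, rfl⟩) (by simp)]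
      trivial
    | succ d ih =>
      rw [pow_succ]
      refine (Ideal.mul_mono_left ih).trans ?_
      rw [Ideal.span_mul_span']
      refine Ideal.span_le.2 ?_
      rintro _ ⟨_, ⟨j, rfl⟩, z, hz, rfl⟩
      rcases hz with rfl | rfl
      · refine Ideal.subset_span ⟨⟨j.1, by omega⟩, ?_⟩
        show z ^ (d + 1 - j.1) * q ^ j.1 = z ^ (d - j.1) * q ^ j.1 * z
        rw [show d + 1 - j.1 = d - j.1 + 1 by omega, pow_succ]
        ring
      · refine Ideal.subset_span ⟨⟨j.1 + 1, by omega⟩, ?_⟩
        show p ^ (d + 1 - (j.1 + 1)) * z ^ (j.1 + 1) = p ^ (d - j.1) * z ^ j.1 * z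
        rw [show d + 1 - (j.1 + 1) = d - j.1 by omega, pow_succ]
        ring
  obtain ⟨c, hc⟩ := Ideal.mem_span_range_iff_exists_fun.1 (hle d hf)
  exact ⟨c, hc.symm⟩

variable {A : Type u} [CommRing A] [IsLocalRing A] [IsNoetherianRing A]

/-- An ideal of finite colength is squeezed between two powers of the maximal ideal. -/
theorem exists_order (hA : ∀ n : ℕ, maximalIdeal A ^ n ≠ ⊥) {K : Ideal A} (hK : K ≠ ⊤)
    (hlen : Module.length A (A ⧸ K) ≠ ⊤) :
    ∃ d N : ℕ, 0 < d ∧ K ≤ maximalIdeal A ^ d ∧ ¬ K ≤ maximalIdeal A ^ (d + 1) ∧ maximalIdeal A ^ N ≤ K := by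
  classical
  have hfl := Module.length_ne_top_iff.1 hlen
  rw [isFiniteLength_iff_isNoetherian_isArtinian] at hfl
  haveI := hfl.2
  haveI : IsArtinianRing (A ⧸ K) := isArtinian_of_tower A hfl.2
  haveI : Nontrivial (A ⧸ K) := Ideal.Quotient.nontrivial_iff.2 hK
  haveI : IsLocalRing (A ⧸ K) := IsLocalRing.of_surjective' (Ideal.Quotient.mk K) Ideal.Quotient.mk_surjective
  haveI : IsLocalHom (Ideal.Quotient.mk K) := .of_surjective _ Ideal.Quotient.mk_surjective
  obtain ⟨N, hN⟩ := IsArtinianRing.isNilpotent_jacobson_bot (R := A ⧸ K)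
  rw [IsLocalRing.jacobson_eq_maximalIdeal ⊥ (by exact bot_ne_top)] at hN
  have hN' : maximalIdeal A ^ N ≤ K := by
    rw [← Ideal.mk_ker (I := K), RingHom.ker, ← Ideal.map_le_iff_le_comap, Ideal.map_pow]
    refine le_trans (pow_le_pow_left' ?_ N) hN.le
    refine Ideal.map_le_iff_le_comap.2 ?_
    rw [← IsLocalRing.maximalIdeal_comap (Ideal.Quotient.mk K)]
  let P : ℕ → Prop := fun d => K ≤ maximalIdeal A ^ d
  have hno : ¬ P (N + 1) := fun h => by
    refine hA N ?_
    have h1 : maximalIdeal A ^ N ≤ maximalIdeal A * maximalIdeal A ^ N := by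
      rw [← pow_succ']; exact hN'.trans h
    exact Submodule.eq_bot_of_le_smul_of_le_jacobson_bot (maximalIdeal A) (maximalIdeal A ^ N)
      (IsNoetherian.noetherian _) h1 (IsLocalRing.maximalIdeal_le_jacobson ⊥)
  have h1 : P 1 := by show K ≤ maximalIdeal A ^ 1; rw [pow_one]; exact le_maximalIdeal hK
  have hfind : ∃ n, ¬ P n := ⟨_, hno⟩
  let m := Nat.find hfind
  have hm : ¬ P m := Nat.find_spec hfind
  have hm0 : 2 ≤ m := by
    by_contra h
    rcases (by omega : m = 0 ∨ m = 1) with h' | h'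
    · exact hm (by show K ≤ maximalIdeal A ^ m; rw [h', pow_zero, Ideal.one_eq_top]; exact le_top)
    · exact hm (h' ▸ h1)
  refine ⟨m - 1, N, by omega, ?_, by rwa [show m - 1 + 1 = m by omega], hN'⟩
  exact not_not.1 (Nat.find_min hfind (show m - 1 < m by omega))

/-- In a chart of the blow-up of the maximal ideal, an ideal of finite colength is a power of the exceptional
equation times an ideal of smaller colength. -/
theorem exists_residual (hA : ∀ n : ℕ, maximalIdeal A ^ n ≠ ⊥) (a : Fin 2 → A)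
    (hm : ctr a = maximalIdeal A) (i j : Fin 2) (hij : j ≠ i) {K : Ideal A} (hK : K ≠ ⊤)
    (hlen : Module.length A (A ⧸ K) ≠ ⊤) :
    ∃ (d : ℕ) (K' : Ideal (Chart a i)),
      K.map (algebraMap A (Chart a i)) = Ideal.span {algebraMap A (Chart a i) (a i) ^ d} * K' ∧
      Module.length (Chart a i) (Chart a i ⧸ K') < Module.length A (A ⧸ K) := by
  classical
  obtain ⟨d, N, hd0, hKd, hKd1, hN⟩ := exists_order hA hK hlen
  let B := Chart a i
  let φ : A →+* B := algebraMap A B
  let t : B := φ (a i)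
  let u : B := fr a i j
  have htu : φ (a j) = t * u := (mul_fr a i j).symm
  have htn : t ^ d ∈ nonZeroDivisors B := pow_mem (GrothLib.BlowUp.algebraMap_mem_nonZeroDivisors _) d
  have hspan : maximalIdeal A = Ideal.span {a i, a j} := by
    rw [← hm, ctr]
    congr 1
    ext z
    constructor
    · rintro ⟨k, rfl⟩
      rcases (by omega : k = i ∨ k = j) with rfl | rfl <;> simp
    · rintro (rfl | rfl)
      exacts [⟨i, rfl⟩, ⟨j, rfl⟩]
  have hmt : ∀ e : ℕ, (maximalIdeal A ^ e).map φ ≤ Ideal.span {t ^ e} := by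
    intro e
    rw [Ideal.map_pow, ← Ideal.span_singleton_pow]
    refine pow_le_pow_left' ?_ e
    rw [hspan, Ideal.map_span, Set.image_pair, Ideal.span_le]
    rintro z (rfl | rfl)
    · exact Ideal.mem_span_singleton_self t
    · rw [SetLike.mem_coe, htu]
      exact Ideal.mul_mem_right _ _ (Ideal.mem_span_singleton_self t)
  let K' : Ideal B := Submodule.comap (LinearMap.mulLeft B (t ^ d)) (K.map φ)
  have hmem : ∀ z, z ∈ K' ↔ t ^ d * z ∈ K.map φ := fun z => Iff.rfl
  refine ⟨d, K', le_antisymm ?_ ?_, ?_⟩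
  · intro z hz
    obtain ⟨w, rfl⟩ := Ideal.mem_span_singleton.1 ((Ideal.map_mono hKd).trans (hmt d) hz)
    exact Ideal.mul_mem_mul (Ideal.mem_span_singleton_self _) hz
  · rw [Ideal.mul_le]
    intro r hr s hs
    obtain ⟨c, rfl⟩ := Ideal.mem_span_singleton.1 hr
    rw [mul_comm (t ^ d) c, mul_assoc]
    exact Ideal.mul_mem_left _ c hs
  -- an element of exact order
  obtain ⟨f, hfK, hf1⟩ := SetLike.not_le_iff_exists.1 hKd1
  obtain ⟨c, hc⟩ := exists_coeff_of_mem_pow (a i) (a j) d (hspan ▸ hKd hfK)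
  have hex : ∃ k : Fin (d + 1), IsUnit (c k) := by
    by_contra h
    push Not at h
    refine hf1 (hc ▸ Ideal.sum_mem _ fun k _ => ?_)
    rw [pow_succ']
    refine Ideal.mul_mem_mul ((mem_maximalIdeal _).2 (h k)) ?_
    have h1 := Ideal.mul_mem_mul (Ideal.pow_mem_pow (show a i ∈ maximalIdeal A by rw [hspan]; exact Ideal.subset_span (by simp)) (d - k.1))
      (Ideal.pow_mem_pow (show a j ∈ maximalIdeal A by rw [hspan]; exact Ideal.subset_span (by simp)) k.1)
    rwa [← pow_add, show d - k.1 + k.1 = d by omega] at h1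
  obtain ⟨e, he, hemax⟩ : ∃ e : Fin (d + 1), IsUnit (c e) ∧ ∀ k, e < k → ¬ IsUnit (c k) := by
    let s := Finset.univ.filter fun k => IsUnit (c k)
    have hs : s.Nonempty := ⟨hex.choose, by simp [s, hex.choose_spec]⟩
    refine ⟨s.max' hs, (Finset.mem_filter.1 (s.max'_mem hs)).2, fun k hk hu => ?_⟩
    exact absurd (s.le_max' k (by simp [s, hu])) (not_le.2 hk)
  let M := B ⧸ K'
  let π : B →ₗ[A] M := (Ideal.Quotient.mkₐ A K').toLinearMap
  have hπsurj : Function.Surjective π := Ideal.Quotient.mk_surjective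
  have hrel : ∑ k : Fin (d + 1), c k • π (u ^ k.1) = 0 := by
    simp only [← map_smul, ← map_sum]
    refine (Ideal.Quotient.eq_zero_iff_mem).2 ((hmem _).2 ?_)
    have h1 : t ^ d * ∑ k : Fin (d + 1), c k • u ^ k.1 = φ f := by
      rw [hc, map_sum, Finset.mul_sum]
      refine Finset.sum_congr rfl fun k _ => ?_
      rw [map_mul, map_mul, map_pow, map_pow, htu, Algebra.smul_def, mul_pow]
      show t ^ d * (φ (c k) * u ^ k.1) = φ (c k) * (t ^ (d - k.1) * (t ^ k.1 * u ^ k.1))
      rw [← mul_assoc (t ^ (d - k.1)), ← pow_add, show d - k.1 + k.1 = d by omega]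
      ring
    rw [h1]
    exact Ideal.mem_map_of_mem φ hfK
  -- `M` is generated by the powers of `u` below `e`, modulo the maximal ideal
  let S : Submodule A M := Submodule.span A (Set.range fun k : Fin e.1 => π (u ^ k.1))
  let T : Submodule A M := S ⊔ maximalIdeal A • ⊤
  have hpow : ∀ k : ℕ, π (u ^ k) ∈ T := by
    intro k
    induction k using Nat.strong_induction_on with
    | _ k ih =>
      by_cases hk : k < e.1
      · exact Submodule.mem_sup_left (Submodule.subset_span ⟨⟨k, hk⟩, rfl⟩)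
      obtain ⟨l, rfl⟩ : ∃ l, k = e.1 + l := ⟨k - e.1, by omega⟩
      have h0 : ∑ k : Fin (d + 1), c k • π (u ^ (k.1 + l)) = 0 := by
        have hs : ∀ k : Fin (d + 1), π (u ^ (k.1 + l)) = (Ideal.Quotient.mk K' (u ^ l)) * π (u ^ k.1) := fun k => by
          show Ideal.Quotient.mk K' _ = Ideal.Quotient.mk K' _ * Ideal.Quotient.mk K' _
          rw [← map_mul, ← pow_add, add_comm]
        simp only [hs, ← mul_smul_comm, ← Finset.mul_sum, hrel, mul_zero]
      rw [← Finset.add_sum_erase _ _ (Finset.mem_univ e), add_eq_zero_iff_eq_neg] at h0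
      have h2 : c e • π (u ^ (e.1 + l)) ∈ T := by
        rw [h0]
        refine neg_mem (sum_mem fun k hk => ?_)
        have hke : k ≠ e := (Finset.mem_erase.1 hk).1
        rcases lt_or_gt_of_ne hke with hlt | hgt
        · exact T.smul_mem _ (ih _ (by have : k.1 < e.1 := hlt; omega))
        · exact Submodule.mem_sup_right (Submodule.smul_mem_smul ((mem_maximalIdeal _).2 (hemax k hgt)) trivial)
      obtain ⟨v, hv⟩ := he.exists_left_inv
      have h3 := T.smul_mem v h2
      rwa [smul_smul, hv, one_smul] at h3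
  have hT : T = ⊤ := by
    refine eq_top_iff.2 fun z _ => ?_
    obtain ⟨w, rfl⟩ := hπsurj z
    obtain ⟨P, rfl⟩ := pres_surjective a i w
    induction P using MvPolynomial.induction_on' with
    | monomial s r =>
      have hs : pres a i (monomial s r) = r • u ^ (s ⟨j, hij⟩) := by
        rw [pres, aeval_monomial, Algebra.smul_def]
        congr 1
        rw [Finsupp.prod_fintype _ _ fun _ => pow_zero _]
        refine Fintype.prod_eq_single (⟨j, hij⟩ : Var i) fun k hk => ?_
        exact absurd (Subtype.ext (show k.1 = j by have := k.2; omega)) hk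
      rw [hs, map_smul]
      exact T.smul_mem _ (hpow _)
    | add p q hp hq => rw [map_add, map_add]; exact add_mem (hp trivial) (hq trivial)
  have hnil : maximalIdeal A ^ N • (⊤ : Submodule A M) = ⊥ := by
    rw [eq_bot_iff, Submodule.smul_le]
    intro r hr z _
    obtain ⟨w, rfl⟩ := hπsurj z
    rw [← map_smul, Submodule.mem_bot]
    refine Ideal.Quotient.eq_zero_iff_mem.2 ((hmem _).2 ?_)
    rw [Algebra.smul_def]
    exact Ideal.mul_mem_left _ _ (Ideal.mul_mem_right _ _ (Ideal.mem_map_of_mem φ (hN hr)))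
  have hS : S = ⊤ := by
    have h : ∀ k : ℕ, S ⊔ maximalIdeal A ^ k • (⊤ : Submodule A M) = ⊤ := by
      intro k
      induction k with
      | zero => rw [pow_zero, Submodule.one_smul]; exact sup_top_eq _
      | succ k ihk =>
        refine eq_top_iff.2 (ihk.ge.trans (sup_le le_sup_left ?_))
        refine Submodule.smul_le.2 fun r hr z _ => ?_
        obtain ⟨s, hs, w, hw, rfl⟩ := Submodule.mem_sup.1 (hT.ge (Submodule.mem_top (x := z)))
        rw [smul_add]
        refine add_mem (Submodule.mem_sup_left (S.smul_mem r hs)) (Submodule.mem_sup_right ?_)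
        rw [pow_succ, Submodule.mul_smul]
        exact Submodule.smul_mem_smul hr hw
    simpa [hnil] using h N
  -- division by `t ^ d`
  have hdiv : ∀ x : ↥(maximalIdeal A ^ d), ∃ w : B, t ^ d * w = φ x.1 := fun x => by
    obtain ⟨w, hw⟩ := Ideal.mem_span_singleton.1 (hmt d (Ideal.mem_map_of_mem φ x.2))
    exact ⟨w, hw.symm⟩
  choose w hw using hdiv
  let Ψ : ↥(maximalIdeal A ^ d) →ₗ[A] M :=
    { toFun := fun x => π (w x)
      map_add' := fun x y => by
        rw [← map_add]
        congr 1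
        refine (mul_cancel_left_mem_nonZeroDivisors htn).1 ?_
        rw [mul_add, hw, hw, hw]
        exact map_add φ _ _
      map_smul' := fun r x => by
        rw [RingHom.id_apply, ← map_smul]
        congr 1
        refine (mul_cancel_left_mem_nonZeroDivisors htn).1 ?_
        rw [Algebra.mul_smul_comm, hw, hw, Algebra.smul_def]
        exact map_mul φ _ _ }
  have hΨ : Function.Surjective Ψ := by
    rw [← LinearMap.range_eq_top, eq_top_iff, ← hS, Submodule.span_le]
    rintro _ ⟨k, rfl⟩
    refine ⟨⟨a i ^ (d - k.1) * a j ^ k.1, ?_⟩, ?_⟩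
    · have h1 := Ideal.mul_mem_mul (Ideal.pow_mem_pow (show a i ∈ maximalIdeal A by rw [hspan]; exact Ideal.subset_span (by simp)) (d - k.1))
        (Ideal.pow_mem_pow (show a j ∈ maximalIdeal A by rw [hspan]; exact Ideal.subset_span (by simp)) k.1)
      rwa [← pow_add, show d - k.1 + k.1 = d by omega] at h1
    · show π (w _) = π (u ^ k.1)
      congr 1
      refine (mul_cancel_left_mem_nonZeroDivisors htn).1 ?_
      rw [hw]
      show φ (a i ^ (d - k.1) * a j ^ k.1) = _
      rw [map_mul, map_pow, map_pow, htu, mul_pow, ← mul_assoc, ← pow_add, show d - k.1 + k.1 = d by omega]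
  let P : Submodule A (A ⧸ K) := Submodule.map (Submodule.mkQ K) (maximalIdeal A ^ d)
  let χ : ↥(maximalIdeal A ^ d) →ₗ[A] P :=
    ((Submodule.mkQ K).comp (maximalIdeal A ^ d).subtype).codRestrict P fun x => Submodule.mem_map_of_mem x.2
  have hker : LinearMap.ker χ ≤ LinearMap.ker Ψ := by
    intro x hx
    have hxK : (x : A) ∈ K := by
      have h1 : (χ x : A ⧸ K) = 0 := by rw [LinearMap.mem_ker.1 hx]; rfl
      exact (Submodule.Quotient.mk_eq_zero _).1 h1
    refine LinearMap.mem_ker.2 (Ideal.Quotient.eq_zero_iff_mem.2 ((hmem _).2 ?_))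
    rw [hw]
    exact Ideal.mem_map_of_mem φ hxK
  have hχ : Function.Surjective χ := by
    rintro ⟨_, x, hx, rfl⟩
    exact ⟨⟨x, hx⟩, rfl⟩
  let χ' := χ.quotKerEquivOfSurjective hχ
  let Ω : P →ₗ[A] M := (Submodule.liftQ (LinearMap.ker χ) Ψ hker).comp χ'.symm.toLinearMap
  have hΩ : Function.Surjective Ω := fun z => by
    obtain ⟨x, rfl⟩ := hΨ z
    refine ⟨χ' (Submodule.Quotient.mk x), ?_⟩
    simp [Ω]
  have hfl := Module.length_ne_top_iff.1 hlen
  rw [isFiniteLength_iff_isNoetherian_isArtinian] at hfl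
  haveI := hfl.1
  haveI := hfl.2
  have hPtop : P ≠ ⊤ := by
    intro h
    obtain ⟨x, hx, hx1⟩ := (h.ge (Submodule.mem_top (x := Submodule.mkQ K (1 : A))))
    have h2 : x - 1 ∈ K := (Submodule.Quotient.eq _).1 hx1
    have h3 : x ∈ maximalIdeal A := Ideal.pow_le_self hd0.ne' hx
    have h4 := sub_mem h3 (le_maximalIdeal hK h2)
    rw [sub_sub_cancel] at h4
    exact (maximalIdeal.isMaximal A).ne_top ((Ideal.eq_top_iff_one _).2 h4)
  have hBA : Module.length B (B ⧸ K') ≤ Module.length A M := by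
    rw [← Module.length_top (R := B) (M := B ⧸ K'), ← Module.length_top (R := A) (M := M)]
    exact Submodule.length_le_length_restrictScalars A _
  calc Module.length B (B ⧸ K') ≤ Module.length A M := hBA
    _ ≤ Module.length A P := Module.length_le_of_surjective Ω hΩ
    _ < Module.length A (A ⧸ K) := Submodule.length_lt hPtop

end GrothLib.ExcP1
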