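import Groth.Agent.Lib.BlowUpRegular.Chart
import Groth.Agent.Lib.RegUFD.Basic
import Groth.Agent.Lib.CMFree.Regular
import Groth.Agent.Lib.BlowUp.UFD
import Mathlib.RingTheory.Length
import Mathlib.RingTheory.KrullDimension.Regular
import Mathlib.RingTheory.HopkinsLevitzki

/-!
# The residual colength of an ideal
-/

universe u

set_option backward.isDefEq.respectTransparency false
set_option linter.all false

open IsLocalRing MvPolynomial
open GrothLib.BlowUp17
open scoped nonZeroDivisors

noncomputable section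

namespace GrothLib.ExcP1

section

variable {R S : Type u} [CommRing R] [CommRing S] (φ : R →+* S)

/-- The colength does not grow under a map for which contraction of ideals is injective. -/
theorem length_map_le (hinj : Function.Injective (Ideal.comap φ : Ideal S → Ideal R)) (K : Ideal R) :
    Module.length S (S ⧸ K.map φ) ≤ Module.length R (R ⧸ K) := by
  rw [← WithBot.coe_le_coe, Module.coe_length, Module.coe_length]
  let F : Submodule S (S ⧸ K.map φ) → Submodule R (R ⧸ K) := fun M =>
    Submodule.map (Submodule.mkQ K) (Ideal.comap φ (Submodule.comap (Submodule.mkQ (K.map φ)) M))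
  refine Order.krullDim_le_of_strictMono F fun M M' h => ?_
  have hle : ∀ N : Submodule S (S ⧸ K.map φ), K ≤ Ideal.comap φ (Submodule.comap (Submodule.mkQ (K.map φ)) N) := by
    intro N r hr
    show Submodule.mkQ (K.map φ) (φ r) ∈ N
    rw [(LinearMap.mem_ker (f := Submodule.mkQ (K.map φ))).1 (by rw [Submodule.ker_mkQ]; exact Ideal.mem_map_of_mem φ hr)]
    exact zero_mem N
  refine lt_of_le_of_ne (Submodule.map_mono (Ideal.comap_mono (Submodule.comap_mono h.le))) fun he => h.ne ?_
  have h1 := congrArg (Submodule.comap (Submodule.mkQ K)) he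
  simp only [F, Submodule.comap_map_mkQ] at h1
  rw [sup_eq_right.2 (hle M), sup_eq_right.2 (hle M')] at h1
  exact Submodule.comap_injective_of_surjective (Submodule.mkQ_surjective _) (hinj h1)

end

section

variable {R S : Type u} [CommRing R] [CommRing S]

/-- The least colength of a residual factor, after removing a regular principal factor. -/
def nu (J : Ideal R) : ℕ∞ :=
  sInf {l | ∃ γ K, γ ∈ nonZeroDivisors R ∧ J = Ideal.span {γ} * K ∧ Module.length R (R ⧸ K) = l}

theorem nu_le {J : Ideal R} {γ : R} {K : Ideal R} (hγ : γ ∈ nonZeroDivisors R)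
    (h : J = Ideal.span {γ} * K) : nu J ≤ Module.length R (R ⧸ K) :=
  sInf_le ⟨γ, K, hγ, h, rfl⟩

theorem exists_of_nu_ne_top {J : Ideal R} (h : nu J ≠ ⊤) :
    ∃ γ K, γ ∈ nonZeroDivisors R ∧ J = Ideal.span {γ} * K ∧ Module.length R (R ⧸ K) = nu J := by
  exact csInf_mem (s := {l : ℕ∞ | ∃ γ K, γ ∈ nonZeroDivisors R ∧ J = Ideal.span {γ} * K ∧ Module.length R (R ⧸ K) = l})
    (Set.nonempty_iff_ne_empty.2 fun h0 => h (by rw [nu, h0, sInf_empty]))

theorem nu_eq_zero_of_span {J : Ideal R} {γ : R} (hγ : γ ∈ nonZeroDivisors R) (h : J = Ideal.span {γ}) :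
    nu J = 0 := by
  refine nonpos_iff_eq_zero.1 ((nu_le (K := ⊤) hγ (by rw [h, Ideal.mul_top])).trans ?_)
  simp

theorem exists_span_of_nu_eq_zero {J : Ideal R} (h : nu J = 0) :
    ∃ γ, γ ∈ nonZeroDivisors R ∧ J = Ideal.span {γ} := by
  obtain ⟨γ, K, hγ, hJ, hK⟩ := exists_of_nu_ne_top (J := J) (by simp [h])
  rw [h, Module.length_eq_zero_iff, Submodule.Quotient.subsingleton_iff] at hK
  exact ⟨γ, hγ, by rw [hJ, hK, Ideal.mul_top]⟩

theorem nu_top : nu (⊤ : Ideal R) = 0 :=
  nu_eq_zero_of_span (one_mem _) Ideal.span_singleton_one.symm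

theorem nu_map_le (φ : R →+* S) (hinj : Function.Injective (Ideal.comap φ : Ideal S → Ideal R))
    (hnzd : ∀ r ∈ nonZeroDivisors R, φ r ∈ nonZeroDivisors S) (J : Ideal R) : nu (J.map φ) ≤ nu J := by
  by_cases h : nu J = ⊤
  · rw [h]; exact le_top
  obtain ⟨γ, K, hγ, hJ, hK⟩ := exists_of_nu_ne_top h
  rw [← hK]
  refine (nu_le (K := K.map φ) (hnzd γ hγ) ?_).trans (length_map_le φ hinj K)
  rw [hJ, Ideal.map_mul, Ideal.map_span, Set.image_singleton]

theorem nu_map_of_bijective (φ : R →+* S) (hb : Function.Bijective φ) (J : Ideal R) : nu (J.map φ) = nu J := by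
  let e := RingEquiv.ofBijective φ hb
  have aux : ∀ {A B : Type u} [CommRing A] [CommRing B] (e : A ≃+* B) (I : Ideal A),
      nu (I.map (e : A →+* B)) ≤ nu I := fun e I =>
    nu_map_le _ (Ideal.comap_injective_of_surjective _ e.surjective)
      (fun r hr => GrothLib.BlowUp.mem_nonZeroDivisors_of_flat _ (RingHom.Flat.of_bijective e.bijective) hr) I
  refine le_antisymm (aux e J) ?_
  have h := aux e.symm (J.map φ)
  rwa [show φ = (e : R →+* S) from rfl, Ideal.map_of_equiv] at h

end

/-- In a chart of the blow-up of a point of a surface, the points on the exceptional divisor have height two. -/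
theorem ringKrullDim_chart {A : Type u} [CommRing A] [IsNoetherianRing A] [IsDomain A] (a : Fin 2 → A) (i : Fin 2)
    (ha : RingTheory.Sequence.IsWeaklyRegular A (List.ofFn a)) (hm : (ctr a).IsMaximal)
    (q : Ideal (Chart a i)) [q.IsMaximal] (hq : algebraMap A (Chart a i) (a i) ∈ q) :
    ringKrullDim (Localization.AtPrime q) = 2 := by
  classical
  haveI : IsNoetherianRing (Chart a i) :=
    isNoetherianRing_of_surjective _ _ (pres a i).toRingHom (pres_surjective a i)
  set t : Chart a i := algebraMap A (Chart a i) (a i)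
  let θ : MvPolynomial (Var i) A →+* Chart a i ⧸ Ideal.span {t} :=
    (Ideal.Quotient.mk _).comp (pres a i).toRingHom
  have hθ : Function.Surjective θ := Ideal.Quotient.mk_surjective.comp (pres_surjective a i)
  have hker : RingHom.ker θ = (ctr a).map (C : A →+* MvPolynomial (Var i) A) := by
    refine le_antisymm (fun P hP => mem_of_pres_mem a i ha P (Ideal.Quotient.eq_zero_iff_mem.1 hP)) ?_
    rw [Ideal.map_le_iff_le_comap, Ideal.span_le]
    rintro _ ⟨j, rfl⟩
    show θ (C (a j)) = 0
    refine Ideal.Quotient.eq_zero_iff_mem.2 ?_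
    rw [← MvPolynomial.algebraMap_eq, AlgHom.toRingHom_eq_coe, RingHom.coe_coe, AlgHom.commutes,
      ← mul_fr a i j]
    exact Ideal.mul_mem_right _ _ (Ideal.mem_span_singleton_self t)
  letI := Ideal.Quotient.field (ctr a)
  obtain ⟨j, hj⟩ : ∃ j : Fin 2, j ≠ i := ⟨i + 1, by fin_cases i <;> simp⟩
  letI : Unique (Var i) := ⟨⟨⟨j, hj⟩⟩, fun k => Subtype.ext (by have := k.2; show k.1 = j; omega)⟩
  let e : Chart a i ⧸ Ideal.span {t} ≃+* Polynomial (A ⧸ ctr a) :=
    ((RingHom.quotientKerEquivOfSurjective hθ).symm.trans (Ideal.quotEquivOfEq hker)).trans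
      ((MvPolynomial.quotientEquivQuotientMvPolynomial (ctr a)).symm.toRingEquiv.trans
        (MvPolynomial.uniqueAlgEquiv (A ⧸ ctr a) (Var i)).toRingEquiv)
  haveI : IsDomain (Chart a i ⧸ Ideal.span {t}) := e.toMulEquiv.isDomain _
  haveI : IsPrincipalIdealRing (Chart a i ⧸ Ideal.span {t}) :=
    IsPrincipalIdealRing.of_surjective e.symm.toRingHom e.symm.surjective
  haveI hp : (Ideal.span {t}).IsPrime := (Ideal.Quotient.isDomain_iff_prime _).1 inferInstance
  have htn : t ∈ nonZeroDivisors (Chart a i) := GrothLib.BlowUp.algebraMap_mem_nonZeroDivisors (I := ctr a) (a i)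
  have hle : Ideal.span {t} ≤ q := (Ideal.span_singleton_le_iff_mem _).2 hq
  have hne : Ideal.span {t} ≠ q := fun h => by
    haveI := h ▸ ‹q.IsMaximal›
    exact Polynomial.not_isField (A ⧸ ctr a) (e.toMulEquiv.symm.isField (Ideal.Quotient.maximal_ideal_iff_isField_quotient _ |>.1 (h ▸ ‹q.IsMaximal›)))
  rw [IsLocalization.AtPrime.ringKrullDim_eq_height q (Localization.AtPrime q)]
  have hlow : 2 ≤ q.height := by
    have h1 : 1 ≤ (Ideal.span {t}).height := by
      rw [ENat.one_le_iff_ne_zero]
      intro h0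
      rw [Ideal.height_eq_zero_iff] at h0
      exact Set.disjoint_left.1 (Ideal.disjoint_nonZeroDivisors_of_mem_minimalPrimes h0)
        (Ideal.mem_span_singleton_self t) htn
    calc (2 : ℕ∞) = 1 + 1 := rfl
      _ ≤ (Ideal.span {t}).height + 1 := by gcongr
      _ ≤ q.height := Ideal.height_add_one_le_of_lt_of_isPrime (lt_of_le_of_ne hle hne)
  have hhigh : q.height ≤ 2 := by
    obtain ⟨s, hs⟩ := (IsPrincipalIdealRing.principal (q.map (Ideal.Quotient.mk (Ideal.span {t})))).principal
    obtain ⟨s, rfl⟩ := Ideal.Quotient.mk_surjective s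
    have hq2 : q = Ideal.span {t, s} := by
      have h1 := congrArg (Ideal.comap (Ideal.Quotient.mk (Ideal.span {t}))) hs
      rw [Ideal.comap_map_mk hle] at h1
      have h2 : ((Chart a i ⧸ Ideal.span {t}) ∙ (Ideal.Quotient.mk (Ideal.span {t})) s : Ideal _) =
          (Ideal.span {s}).map (Ideal.Quotient.mk (Ideal.span {t})) := by
        rw [Ideal.map_span, Set.image_singleton]
      rw [h1, h2, Ideal.comap_map_of_surjective _ Ideal.Quotient.mk_surjective, ← RingHom.ker_eq_comap_bot, Ideal.mk_ker,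
        Ideal.span_insert, sup_comm]
    refine (Ideal.height_le_spanFinrank q (Ideal.IsPrime.ne_top inferInstance)).trans ?_
    rw [hq2]
    refine (Nat.cast_le (α := ℕ∞)).2 (le_trans (Submodule.spanFinrank_span_le_ncard_of_finite (Set.toFinite _)) ?_)
    exact (Set.ncard_insert_le _ _).trans (by simp)
  rw [le_antisymm hhigh hlow]
  rfl

/-- An ideal contained only in maximal primes has finite colength. -/
theorem length_ne_top_of_primes_maximal {R : Type u} [CommRing R] [IsNoetherianRing R] {K : Ideal R}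
    (h : ∀ P : Ideal R, P.IsPrime → K ≤ P → P.IsMaximal) : Module.length R (R ⧸ K) ≠ ⊤ := by
  haveI : Ring.KrullDimLE 0 (R ⧸ K) := Ring.krullDimLE_zero_iff.2 fun P hP => by
    haveI := hP
    haveI := h (P.comap (Ideal.Quotient.mk K)) inferInstance (by
      intro r hr
      show Ideal.Quotient.mk K r ∈ P
      rw [Ideal.Quotient.eq_zero_iff_mem.2 hr]
      exact zero_mem P)
    have h1 := Ideal.map_eq_top_or_isMaximal_of_surjective (Ideal.Quotient.mk K) Ideal.Quotient.mk_surjective
      (I := P.comap (Ideal.Quotient.mk K)) ‹_›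
    rw [Ideal.map_comap_of_surjective _ Ideal.Quotient.mk_surjective] at h1
    exact h1.resolve_left hP.ne_top
  haveI : IsArtinianRing (R ⧸ K) := isArtinianRing_iff_krullDimLE_zero.2 ‹_›
  haveI : IsArtinian R (R ⧸ K) := isArtinian_of_surjective_algebraMap (R := R ⧸ K) (S := R) (M := R ⧸ K) Ideal.Quotient.mk_surjective
  rw [Module.length_ne_top_iff, isFiniteLength_iff_isNoetherian_isArtinian]
  exact ⟨inferInstance, inferInstance⟩

/-- An ideal of finite colength is contained in finitely many primes. -/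
theorem finite_primes_above {B : Type u} [CommRing B] {K : Ideal B} (hne : Module.length B (B ⧸ K) ≠ ⊤) :
    {p : PrimeSpectrum B | K ≤ p.asIdeal}.Finite := by
  rw [Module.length_ne_top_iff, isFiniteLength_iff_isNoetherian_isArtinian] at hne
  haveI := hne.2
  haveI : IsArtinianRing (B ⧸ K) := isArtinian_of_tower B hne.2
  refine (Set.finite_range (PrimeSpectrum.comap (Ideal.Quotient.mk K))).subset fun p hp => ?_
  exact ⟨⟨p.asIdeal.map (Ideal.Quotient.mk K), Ideal.map_isPrime_of_surjective Ideal.Quotient.mk_surjective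
    (by rw [Ideal.mk_ker]; exact hp)⟩, PrimeSpectrum.ext (Ideal.comap_map_mk hp)⟩

/-- In a regular local ring of dimension at most two, a nonzero ideal has finite residual colength. -/
theorem nu_ne_top {R : Type u} [CommRing R] [IsRegularLocalRing R] (hd : ringKrullDim R ≤ 2) {J : Ideal R}
    (hJ : J ≠ ⊥) : nu J ≠ ⊤ := by
  classical
  haveI := GrothLib.CMFree.isDomain_of_isRegularLocalRing R
  haveI := RegUFD.ufd_of_isRegularLocalRing R
  obtain ⟨K, ⟨γ, hγ, hJK⟩, hmax⟩ := set_has_maximal_iff_noetherian.2 (inferInstance : IsNoetherian R R)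
    {K : Ideal R | ∃ γ : R, γ ≠ 0 ∧ J = Ideal.span {γ} * K}
    ⟨J, 1, one_ne_zero, by rw [Ideal.span_singleton_one, Ideal.top_mul]⟩
  refine ne_top_of_le_ne_top (length_ne_top_of_primes_maximal (K := K) fun P hP hKP => ?_)
    (nu_le (mem_nonZeroDivisors_of_ne_zero hγ) hJK)
  haveI := hP
  by_contra hPm
  have hK0 : K ≠ ⊥ := fun h => hJ (by rw [hJK, h, Ideal.mul_bot])
  have hP0 : P ≠ ⊥ := fun h => hK0 (le_bot_iff.1 (h ▸ hKP))
  have hPlt : P < maximalIdeal R :=
    lt_of_le_of_ne (le_maximalIdeal hP.ne_top) fun h => hPm (h ▸ maximalIdeal.isMaximal R)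
  have h1 : P.height = 1 := by
    refine le_antisymm ?_ ?_
    · have h2 := Ideal.height_add_one_le_of_lt_of_isPrime hPlt
      have h3 : (maximalIdeal R).height ≤ 2 := by
        have := hd
        rw [← IsLocalRing.maximalIdeal_height_eq_ringKrullDim] at this
        exact WithBot.coe_le_coe.1 this
      have h4 : P.height + 1 ≤ 1 + 1 := h2.trans h3
      exact (ENat.add_le_add_iff_right (by simp)).1 h4
    · rw [ENat.one_le_iff_ne_zero]
      intro h0
      rw [Ideal.height_eq_zero_iff, IsDomain.minimalPrimes_eq_singleton_bot] at h0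
      exact hP0 h0
  obtain ⟨π, hπ, hπ0⟩ := GrothLib.BlowUp.exists_span_of_height_one h1
  let K' : Ideal R := K.colon {π}
  have hmem : ∀ r, r ∈ K' ↔ r * π ∈ K := fun r => by rw [Submodule.mem_colon_singleton, smul_eq_mul]
  have hprod : K = Ideal.span {π} * K' := by
    refine le_antisymm (fun x hx => ?_) (Ideal.span_singleton_mul_le_iff.mpr fun z hz => ?_)
    · obtain ⟨d, rfl⟩ := Ideal.mem_span_singleton.mp ((hKP.trans hπ.le) hx)
      exact Ideal.mul_mem_mul (Ideal.mem_span_singleton_self π) ((hmem d).mpr (by rwa [mul_comm]))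
    · rw [mul_comm]; exact (hmem z).mp hz
  refine hmax K' ⟨γ * π, mul_ne_zero hγ hπ0, ?_⟩ (lt_of_le_of_ne
    (fun r hr => (hmem r).mpr (Ideal.mul_mem_right _ K hr)) fun heq => hK0 ?_)
  · rw [hJK, hprod, ← mul_assoc, Ideal.span_singleton_mul_span_singleton]
  refine Submodule.eq_bot_of_le_smul_of_le_jacobson_bot (Ideal.span {π}) K (IsNoetherian.noetherian K)
    (by rw [smul_eq_mul]; exact hprod.le.trans (by rw [← heq])) ?_
  exact ((hπ ▸ le_maximalIdeal hP.ne_top : Ideal.span {π} ≤ maximalIdeal R)).trans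
    (IsLocalRing.maximalIdeal_le_jacobson ⊥)

end GrothLib.ExcP1
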