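import Groth.Agent.Lib.ExcP1.Seq
import Groth.Agent.Lib.ExcP1.Colength
import Groth.Agent.Lib.ExcP1.Nu
import Groth.Agent.Lib.CartierDescent.Normal
import Groth.Agent.Lib.CartierDescent.Conditions
import Groth.Agent.Lib.ArSurf29.Spread
import Groth.Agent.Lib.BlowUp.Exists
import Groth.Agent.Lib.Nagata6.UnionData

/-!
# Making an ideal invertible by blowing up points
-/

universe u

set_option backward.isDefEq.respectTransparency false
set_option linter.all false

open AlgebraicGeometry CategoryTheory CategoryTheory.Limits TopologicalSpace Opposite IsLocalRing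
open GrothLib.BlowUp17 GrothLib.CartierDescent
open Models (IsContractionSeq)

noncomputable section

namespace GrothLib.ExcP1

variable {X Y : Scheme.{u}}

/-- The residual colength of an ideal sheaf at a point. -/
def nuAt (I : X.IdealSheafData) (x : X) : ℕ∞ := nu (stalkIdeal I x)

/-- The closed points at which an ideal sheaf is not invertible. -/
def bad (I : X.IdealSheafData) : Set X := {x | IsClosed ({x} : Set X) ∧ nuAt I x ≠ 0}

theorem nuAt_comap (I : Y.IdealSheafData) (f : X ⟶ Y) (x : X) [IsIso (f.stalkMap x)] :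
    nuAt (I.comap f) x = nuAt I (f x) := by
  rw [nuAt, nuAt, stalkIdeal_comap]
  exact nu_map_of_bijective _ (ConcreteCategory.bijective_of_isIso (f.stalkMap x)) _

/-- The stalk of an ideal on an affine scheme. -/
theorem stalkIdeal_spec {R : CommRingCat.{u}} (J : (Spec R).IdealSheafData) (p : Spec R) :
    stalkIdeal J p =
      ((J.ideal ⟨⊤, isAffineOpen_top _⟩).map (Scheme.ΓSpecIso R).hom.hom).map
        (StructureSheaf.toStalk R p).hom := by
  rw [stalkIdeal_eq J ⟨⊤, isAffineOpen_top _⟩ (x := p) trivial, Ideal.map_map, ← CommRingCat.hom_comp]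
  congr 2
  rw [show StructureSheaf.toStalk R p = (Scheme.ΓSpecIso R).inv ≫ (Spec R).presheaf.germ ⊤ p trivial from rfl,
    Iso.hom_inv_id_assoc]

theorem stalkIdeal_comap_fromSpecStalk (I : X.IdealSheafData) (y : X) (p : Spec (X.presheaf.stalk y)) :
    stalkIdeal (I.comap (X.fromSpecStalk y)) p =
      (stalkIdeal I y).map (StructureSheaf.toStalk (X.presheaf.stalk y) p).hom :=
  stalkIdeal_spec _ p

theorem stalkIdeal_vanishingIdeal {y : X} (hy : IsClosed ({y} : Set X)) :
    stalkIdeal (Scheme.IdealSheafData.vanishingIdeal ⟨{y}, hy⟩) y = maximalIdeal (X.presheaf.stalk y) := by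
  obtain ⟨_, ⟨U, hU, rfl⟩, hyU, -⟩ :=
    X.isBasis_affineOpens.exists_subset_of_mem_open (Set.mem_univ y) isOpen_univ
  letI : Algebra Γ(X, U) (X.presheaf.stalk y) := X.presheaf.algebra_section_stalk (⟨y, hyU⟩ : U)
  haveI : IsLocalization.AtPrime (X.presheaf.stalk y) (hU.primeIdealOf ⟨y, hyU⟩).asIdeal :=
    hU.isLocalization_stalk ⟨y, hyU⟩
  rw [stalkIdeal_eq _ ⟨U, hU⟩ hyU, (vanishingIdeal_point_ideal hy ⟨U, hU⟩ hyU).1]
  exact IsLocalization.AtPrime.map_eq_maximalIdeal _ (X.presheaf.stalk y)

/-- Where the stalk is principal and regular, an ideal sheaf is invertible nearby. -/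
theorem exists_cartier_nhd [IsLocallyNoetherian X] (I : X.IdealSheafData) {x : X}
    (h : nuAt I x = 0) : ∃ W : X.affineOpens, x ∈ W.1 ∧
      ∃ f : Γ(X, W.1), f ∈ nonZeroDivisors Γ(X, W.1) ∧ I.ideal W = Ideal.span {f} := by
  obtain ⟨γ, hγ, hJ⟩ := exists_span_of_nu_eq_zero h
  obtain ⟨_, ⟨U, hU, rfl⟩, hxU, -⟩ :=
    X.isBasis_affineOpens.exists_subset_of_mem_open (Set.mem_univ x) isOpen_univ
  let A := Γ(X, U)
  haveI : IsNoetherianRing A := IsLocallyNoetherian.component_noetherian ⟨U, hU⟩
  let S := (hU.primeIdealOf ⟨x, hxU⟩).asIdeal.primeCompl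
  letI : Algebra A (X.presheaf.stalk x) := X.presheaf.algebra_section_stalk (⟨x, hxU⟩ : U)
  haveI : IsLocalization.AtPrime (X.presheaf.stalk x) (hU.primeIdealOf ⟨x, hxU⟩).asIdeal :=
    hU.isLocalization_stalk ⟨x, hxU⟩
  obtain ⟨⟨a, s⟩, has⟩ := IsLocalization.surj S γ
  dsimp only at has
  have hu : IsUnit (algebraMap A (X.presheaf.stalk x) s) := IsLocalization.map_units _ s
  have hspan : Ideal.span {γ} = (Ideal.span {a}).map (algebraMap A (X.presheaf.stalk x)) := by
    rw [Ideal.map_span, Set.image_singleton, ← has, Ideal.span_singleton_mul_right_unit hu]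
  have hI : (I.ideal ⟨U, hU⟩).map (algebraMap A (X.presheaf.stalk x)) =
      (Ideal.span {a}).map (algebraMap A (X.presheaf.stalk x)) := by
    rw [← hspan, ← hJ, stalkIdeal_eq I ⟨U, hU⟩ hxU]
    rfl
  have hreg : RingTheory.Sequence.IsWeaklyRegular (X.presheaf.stalk x)
      ([a].map (algebraMap A (X.presheaf.stalk x))) := by
    rw [List.map_cons, List.map_nil, RingTheory.Sequence.isWeaklyRegular_singleton_iff, ← has]
    intro z w hzw
    exact (mul_cancel_left_mem_nonZeroDivisors (mul_mem hγ hu.mem_nonZeroDivisors)).1 hzw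
  obtain ⟨g₁, hg₁, h₁⟩ := GrothLib.RegSeqLoc.exists_away_isWeaklyRegular S _ [a] hreg
  obtain ⟨g₂, hg₂, h₂⟩ := GrothLib.RegSeqLoc.exists_away_eq S _ _ _ hI
  let g := g₁ * g₂
  have hxW : x ∈ X.basicOpen g := by
    rw [Scheme.mem_basicOpen _ _ _ hxU]
    exact IsLocalization.map_units (X.presheaf.stalk x) (⟨g, mul_mem hg₁ hg₂⟩ : S)
  let W : X.affineOpens := ⟨X.basicOpen g, hU.basicOpen g⟩
  letI : Algebra A Γ(X, W.1) := (X.presheaf.map (homOfLE (X.basicOpen_le g)).op).hom.toAlgebra
  haveI : IsLocalization.Away g Γ(X, W.1) := hU.isLocalization_basicOpen g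
  have hgu : IsUnit (algebraMap A Γ(X, W.1) g) := IsLocalization.Away.algebraMap_isUnit g
  rw [map_mul, IsUnit.mul_iff] at hgu
  refine ⟨W, hxW, algebraMap A Γ(X, W.1) a, ?_, ?_⟩
  · have h := h₁ (Submonoid.powers g) Γ(X, W.1) hgu.1
    rw [List.map_cons, List.map_nil, RingTheory.Sequence.isWeaklyRegular_singleton_iff] at h
    refine mem_nonZeroDivisors_iff.2 ⟨fun z hz => h.right_eq_zero_of_smul hz, fun z hz => h.right_eq_zero_of_smul ?_⟩
    rw [smul_eq_mul, mul_comm]
    exact hz
  · refine ((I.map_ideal (U := W) (V := ⟨U, hU⟩) (X.basicOpen_le g)).symm.trans (h₂ Γ(X, W.1) hgu.2)).trans ?_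
    rw [Ideal.map_span, Set.image_singleton]

theorem nuAt_eq_zero_of_cartier (I : X.IdealSheafData) (hI : _root_.BlowUp.IsEffCartierIdeal I) (x : X) :
    nuAt I x = 0 := by
  obtain ⟨γ, hγ, h⟩ := exists_stalk_generator hI x
  exact nu_eq_zero_of_span hγ h

theorem isEffCartierIdeal_of_bad_eq_empty [IsNoetherian X] (I : X.IdealSheafData) (h : bad I = ∅) :
    _root_.BlowUp.IsEffCartierIdeal I := by
  intro x
  obtain ⟨c, hxc, hc⟩ := GrothLib.ArSurf29.exists_isClosed_specialization x
  have hc0 : nuAt I c = 0 := by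
    by_contra h0
    exact Set.eq_empty_iff_forall_notMem.1 h c ⟨hc, h0⟩
  obtain ⟨W, hcW, hW⟩ := exists_cartier_nhd I hc0
  exact ⟨W, hxc.mem_open W.1.2 hcW, hW⟩

/-- The stalk map of a blow-up off its centre. -/
theorem isIso_stalkMap_off {X' : Scheme.{u}} {y : X} (hy : IsClosed ({y} : Set X)) {b : X' ⟶ X}
    (hb : _root_.BlowUp.IsBlowUp b (Scheme.IdealSheafData.vanishingIdeal ⟨{y}, hy⟩)) {x : X'} (hx : b x ≠ y) :
    IsIso (b.stalkMap x) := by
  set J := Scheme.IdealSheafData.vanishingIdeal ⟨{y}, hy⟩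
  haveI := GrothLib.BlowUp.isIso_off_center hb
  have hxU : b x ∈ J.support.compl := by
    show b x ∉ (J.support : Set X)
    rw [Scheme.IdealSheafData.coe_support_vanishingIdeal]
    exact hx
  exact ((MorphismProperty.isomorphisms CommRingCat).arrow_mk_iso_iff
    (morphismRestrictStalkMap b J.support.compl ⟨x, hxU⟩)).1
    (show IsIso ((b ∣_ J.support.compl).stalkMap ⟨x, hxU⟩) from inferInstance)

/-- After blowing up a closed regular point of dimension two, the residual colength over it drops. -/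
theorem blowUp_step [IsNoetherian X] (I : X.IdealSheafData) {y : X} (hy : IsClosed ({y} : Set X))
    [IsRegularLocalRing (X.presheaf.stalk y)] (hd : ringKrullDim (X.presheaf.stalk y) = 2)
    (hn : nuAt I y ≠ ⊤) (hn0 : nuAt I y ≠ 0) {X' : Scheme.{u}} {b : X' ⟶ X}
    (hb : _root_.BlowUp.IsBlowUp b (Scheme.IdealSheafData.vanishingIdeal ⟨{y}, hy⟩)) :
    {x | x ∈ bad (I.comap b) ∧ b x = y}.Finite ∧ ∀ x : X', IsClosed ({x} : Set X') → b x = y →
      IsRegularLocalRing (X'.presheaf.stalk x) ∧ ringKrullDim (X'.presheaf.stalk x) = 2 ∧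
      nuAt (I.comap b) x < nuAt I y := by
  classical
  let R := X.presheaf.stalk y
  haveI : IsDomain R := GrothLib.CMFree.isDomain_of_isRegularLocalRing R
  haveI : IsRegularRing R := GrothLib.BlowUpRegular.isRegularRing_of_isRegularLocalRing R
  obtain ⟨a, ha, haw⟩ := exists_regular_params R hd
  have hm0 : maximalIdeal R ≠ ⊥ := by
    intro h0
    have hf := (IsLocalRing.isField_iff_maximalIdeal_eq).2 h0
    rw [ringKrullDim_eq_zero_of_isField hf] at hd
    simp at hd
  have hA : ∀ k : ℕ, maximalIdeal R ^ k ≠ ⊥ := fun k => pow_ne_zero k hm0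
  have hctr : (ctr a).IsMaximal := ha ▸ maximalIdeal.isMaximal R
  obtain ⟨γ, K, hγ, hJ, hK⟩ := exists_of_nu_ne_top hn
  have hK1 : K ≠ ⊤ := fun h => hn0 (nu_eq_zero_of_span hγ (by rw [hJ, h, Ideal.mul_top]))
  have hlen : Module.length R (R ⧸ K) ≠ ⊤ := by rw [hK]; exact hn
  -- base change to the local scheme at the point
  let iX : Spec (CommRingCat.of R) ⟶ X := X.fromSpecStalk y
  haveI : Flat iX := inferInstanceAs (Flat (X.fromSpecStalk y))
  haveI : IsPreimmersion iX := inferInstanceAs (IsPreimmersion (X.fromSpecStalk y))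
  have hp := GrothLib.BlowUp.isBlowUp_flat_baseChange iX hb
  rw [show (Scheme.IdealSheafData.vanishingIdeal ⟨{y}, hy⟩).comap iX = GrothLib.BlowUp.idealSheaf (ctr a) by
    refine Scheme.IdealSheafData.ext_of_isAffine ?_
    rw [GrothLib.BlowUp.ideal_idealSheaf_top, ha, ← stalkIdeal_vanishingIdeal hy, stalkIdeal, Ideal.map_map]
    erw [← CommRingCat.hom_comp, Iso.hom_inv_id, CommRingCat.hom_id, Ideal.map_id]] at hp
  have hai : ∀ i, a i ≠ 0 := fun i h0 => by
    have hu := hctr
    obtain ⟨j, hj⟩ : ∃ j : Fin (1 + 1), j ≠ i := ⟨i + 1, by fin_cases i <;> simp⟩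
    have hprinc : maximalIdeal R = Ideal.span {a j} := by
      rw [← ha]
      refine le_antisymm (Ideal.span_le.2 ?_) ((Ideal.span_singleton_le_iff_mem _).2 (Ideal.subset_span ⟨j, rfl⟩))
      rintro _ ⟨k, rfl⟩
      rcases (by omega : k = i ∨ k = j) with rfl | rfl
      · rw [SetLike.mem_coe, h0]; exact zero_mem _
      · exact Ideal.mem_span_singleton_self _
    have h1 := Ideal.height_le_spanFinrank (maximalIdeal R) (maximalIdeal.isMaximal R).ne_top
    rw [hprinc] at h1
    have h2 : (maximalIdeal R).height = 2 := by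
      have := hd
      rw [← IsLocalRing.maximalIdeal_height_eq_ringKrullDim] at this
      exact WithBot.coe_eq_coe.1 this
    rw [← hprinc, h2] at h1
    have h3 : (maximalIdeal R).spanFinrank ≤ 1 := by
      rw [hprinc]
      exact (Submodule.spanFinrank_span_le_ncard_of_finite (Set.finite_singleton _)).trans (by simp)
    have h4 : (2 : ℕ∞) ≤ 1 := h1.trans ((Nat.cast_le (α := ℕ∞)).2 h3)
    exact absurd h4 (by decide)
  have hαinj : ∀ i, Function.Injective (algebraMap R (Chart a i)) := by
    intro i z w hzw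
    have h : algebraMap R (Localization.Away (a i)) z = algebraMap R (Localization.Away (a i)) w :=
      congrArg Subtype.val hzw
    exact IsLocalization.injective (Localization.Away (a i))
      (powers_le_nonZeroDivisors_of_noZeroDivisors (hai i)) h
  have hdom : ∀ i, IsDomain (Chart a i) := fun i => by
    haveI : IsDomain (Localization.Away (a i)) := IsLocalization.isDomain_localization
      (powers_le_nonZeroDivisors_of_noZeroDivisors (hai i))
    infer_instance
  -- the data on the charts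
  have hres : ∀ i : Fin (1 + 1), ∃ (d : ℕ) (K' : Ideal (Chart a i)),
      K.map (algebraMap R (Chart a i)) = Ideal.span {algebraMap R (Chart a i) (a i) ^ d} * K' ∧
      Module.length (Chart a i) (Chart a i ⧸ K') < Module.length R (R ⧸ K) := fun i =>
    exists_residual hA a ha i (i + 1) (by fin_cases i <;> simp) hK1 hlen
  choose d K' hK' hlt using hres
  let j : ∀ i, Spec (CommRingCat.of (Chart a i)) ⟶ X' := fun i => chartMap a hp i ≫ pullback.snd iX b
  have hjiso : ∀ i p, IsIso ((j i).stalkMap p) := fun i p => by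
    haveI : Flat (pullback.snd iX b) := inferInstance
    haveI : IsPreimmersion (pullback.snd iX b) := inferInstance
    exact GrothLib.ArSurf29.isIso_stalkMap_of_flat_preimmersion (j i) p
  have hjb : ∀ i, j i ≫ b = Spec.map (CommRingCat.ofHom (algebraMap R (Chart a i))) ≫ iX := fun i => by
    simp only [j, Category.assoc]
    rw [← pullback.condition, ← Category.assoc, chartMap_comp]
  -- each closed point over the centre lies in a chart, at a maximal ideal over the centre
  have hpt : ∀ x : X', IsClosed ({x} : Set X') → b x = y → ∃ (i : Fin (1 + 1)) (p : Spec (CommRingCat.of (Chart a i))),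
      j i p = x ∧ p.asIdeal.IsMaximal ∧ algebraMap R (Chart a i) (a i) ∈ p.asIdeal := by
    intro x hxc hx
    obtain ⟨q, hq⟩ : x ∈ Set.range (pullback.snd iX b) := by
      rw [Scheme.Pullback.range_snd]
      exact ⟨closedPoint R, Scheme.fromSpecStalk_closedPoint.trans hx.symm⟩
    obtain ⟨i, hi⟩ := Opens.mem_iSup.1 ((iSup_U a hp).ge (Opens.mem_top q))
    obtain ⟨p, -, hpq⟩ := hi
    have hjp : j i p = x := by
      rw [← hq, ← hpq]
      exact Scheme.Hom.comp_apply _ _ _
    refine ⟨i, p, hjp, ?_, ?_⟩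
    · rw [← PrimeSpectrum.isClosed_singleton_iff_isMaximal]
      have hpre : j i ⁻¹' {x} = {p} := by
        refine Set.Subset.antisymm (fun w hw => ?_) (by rintro _ rfl; exact hjp)
        haveI : IsPreimmersion (j i) := inferInstanceAs (IsPreimmersion (chartMap a hp i ≫ pullback.snd iX b))
        exact (j i).isEmbedding.injective (Eq.trans hw hjp.symm)
      rw [← hpre]
      exact hxc.preimage (j i).continuous
    · have h1 : iX (Spec.map (CommRingCat.ofHom (algebraMap R (Chart a i))) p) = iX (closedPoint R) := by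
        rw [← Scheme.Hom.comp_apply, ← hjb, Scheme.Hom.comp_apply, hjp, hx]
        exact Scheme.fromSpecStalk_closedPoint.symm
      have h2 := congrArg PrimeSpectrum.asIdeal (iX.isEmbedding.injective h1)
      have h3 : a i ∈ (Spec.map (CommRingCat.ofHom (algebraMap R (Chart a i))) p).asIdeal := by
        rw [h2]
        show a i ∈ maximalIdeal R
        rw [← ha]
        exact Ideal.subset_span ⟨i, rfl⟩
      exact h3
  have hval : ∀ (i : Fin (1 + 1)) (p : Spec (CommRingCat.of (Chart a i))),
      nuAt (I.comap b) (j i p) ≤ Module.length (Chart a i) (Chart a i ⧸ K' i) ∧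
      (¬ K' i ≤ p.asIdeal → nuAt (I.comap b) (j i p) = 0) := by
    intro i p
    haveI := hjiso i p
    let B := Chart a i
    haveI : IsDomain B := hdom i
    let ι : B →+* (Spec (CommRingCat.of B)).presheaf.stalk p := (StructureSheaf.toStalk (CommRingCat.of B) p).hom
    let κ : Algebra B ((Spec (CommRingCat.of B)).presheaf.stalk p) := StructureSheaf.stalkAlgebra _ p
    haveI : IsLocalization.AtPrime ((Spec (CommRingCat.of B)).presheaf.stalk p) p.asIdeal :=
      StructureSheaf.IsLocalization.to_stalk _ p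
    have hι : ι = algebraMap B _ := rfl
    have h1 : nuAt (I.comap b) (j i p) = nu ((stalkIdeal I y).map (ι.comp (algebraMap R B))) := by
      rw [← nuAt_comap (I.comap b) (j i) p, ← Scheme.IdealSheafData.comap_comp]
      show nu (stalkIdeal (I.comap (j i ≫ b)) p) = _
      rw [hjb i, Scheme.IdealSheafData.comap_comp, stalkIdeal_comap, stalkIdeal_comap_fromSpecStalk,
        Ideal.map_map, ← CommRingCat.hom_comp]
      refine congrArg nu (congrArg (fun f => Ideal.map f (stalkIdeal I y)) ?_)
      exact congrArg CommRingCat.Hom.hom (stalkMap_toStalk (CommRingCat.ofHom (algebraMap R B)) p)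
    let δ := ι (algebraMap R B γ * algebraMap R B (a i) ^ d i)
    have hδ : δ ∈ nonZeroDivisors ((Spec (CommRingCat.of B)).presheaf.stalk p) := by
      refine GrothLib.BlowUp.mem_nonZeroDivisors_of_flat ι ?_ (mul_mem ?_ (pow_mem
        (GrothLib.BlowUp.algebraMap_mem_nonZeroDivisors (I := ctr a) (a i)) _))
      · rw [hι, RingHom.flat_algebraMap_iff]
        exact IsLocalization.flat _ p.asIdeal.primeCompl
      · exact mem_nonZeroDivisors_of_ne_zero fun h => nonZeroDivisors.ne_zero hγ
          (hαinj i (h.trans (map_zero _).symm))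
    have h2 : (stalkIdeal I y).map (ι.comp (algebraMap R B)) = Ideal.span {δ} * (K' i).map ι := by
      rw [hJ, ← Ideal.map_map, Ideal.map_mul, Ideal.map_mul, hK' i, Ideal.map_mul, Ideal.map_span,
        Set.image_singleton, Ideal.map_span, Set.image_singleton, Ideal.map_span, Set.image_singleton,
        ← mul_assoc, Ideal.span_singleton_mul_span_singleton, ← map_mul]
    rw [h1, h2]
    refine ⟨(nu_le hδ rfl).trans (length_map_le ι ?_ _), fun hKp => ?_⟩
    · intro P Q h
      rw [hι] at h
      exact ((IsLocalization.map_comap p.asIdeal.primeCompl _ P).symm.trans (congrArg (Ideal.map (algebraMap B _)) h)).trans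
        (IsLocalization.map_comap p.asIdeal.primeCompl _ Q)
    · obtain ⟨z, hzK, hzp⟩ := SetLike.not_le_iff_exists.1 hKp
      have htop : (K' i).map ι = ⊤ :=
        Ideal.eq_top_of_isUnit_mem _ (Ideal.mem_map_of_mem ι hzK)
          (hι ▸ IsLocalization.map_units _ (⟨z, hzp⟩ : p.asIdeal.primeCompl))
      rw [htop, Ideal.mul_top]
      exact nu_eq_zero_of_span hδ rfl
  refine ⟨?_, fun x hxc hx => ?_⟩
  · have hfin : ∀ i, {p : PrimeSpectrum (Chart a i) | K' i ≤ p.asIdeal}.Finite := fun i =>
      finite_primes_above (ne_top_of_lt (hlt i))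
    refine (Set.finite_iUnion fun i => (hfin i).image (j i)).subset ?_
    rintro x ⟨⟨hxc, hx0⟩, hx⟩
    obtain ⟨i, p, rfl, -, -⟩ := hpt x hxc hx
    refine Set.mem_iUnion.2 ⟨i, p, ?_, rfl⟩
    by_contra hKp
    exact hx0 ((hval i p).2 hKp)
  · obtain ⟨i, p, rfl, hpm, hpt'⟩ := hpt x hxc hx
    haveI := hjiso i p
    haveI := hpm
    let κ : Algebra (Chart a i) ((Spec (CommRingCat.of (Chart a i))).presheaf.stalk p) := StructureSheaf.stalkAlgebra _ p
    haveI : IsLocalization.AtPrime ((Spec (CommRingCat.of (Chart a i))).presheaf.stalk p) p.asIdeal :=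
      StructureSheaf.IsLocalization.to_stalk _ p
    let e : X'.presheaf.stalk (j i p) ≃+* Localization.AtPrime p.asIdeal :=
      (asIso ((j i).stalkMap p)).commRingCatIsoToRingEquiv.trans
        (IsLocalization.algEquiv p.asIdeal.primeCompl ((Spec (CommRingCat.of (Chart a i))).presheaf.stalk p)
          (Localization.AtPrime p.asIdeal)).toRingEquiv
    haveI := GrothLib.BlowUpRegular.isRegularLocalRing_chart a i haw hctr p.asIdeal
    refine ⟨IsRegularLocalRing.of_ringEquiv (R := Localization.AtPrime p.asIdeal) e.symm, ?_, ?_⟩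
    · rw [ringKrullDim_eq_of_ringEquiv e]
      exact ringKrullDim_chart a i haw hctr p.asIdeal hpt'
    · exact ((hval i p).1).trans_lt ((hlt i).trans_le hK.le)

/-- The points where an ideal sheaf fails to be invertible can be treated by blowing up points. -/
theorem exists_seq_of_bound : ∀ (n : ℕ) (m : ℕ) (X : Scheme.{u}) [IsNoetherian X] (I : X.IdealSheafData) (T : Set X)
    (hT : IsClosed T), bad I ⊆ T → (bad I).Finite →
    (∀ x ∈ bad I, IsRegularLocalRing (X.presheaf.stalk x) ∧ ringKrullDim (X.presheaf.stalk x) = 2 ∧ nuAt I x ≤ n) →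
    {x | x ∈ bad I ∧ nuAt I x = n}.ncard ≤ m →
    ∃ (X' : Scheme.{u}) (g : X' ⟶ X), IsContractionSeq g ∧ IsIso (g ∣_ (⟨Tᶜ, hT.isOpen_compl⟩ : X.Opens)) ∧
      _root_.BlowUp.IsEffCartierIdeal (I.comap g) := by
  intro n
  induction n with
  | zero =>
    intro m X _ I T hT hbT hfin hgood _
    refine ⟨X, (Iso.refl X).hom, IsContractionSeq.iso (Iso.refl X), inferInstance, ?_⟩
    rw [Iso.refl_hom, Scheme.IdealSheafData.comap_id]
    refine isEffCartierIdeal_of_bad_eq_empty I (Set.eq_empty_iff_forall_notMem.2 fun x hx => hx.2 ?_)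
    exact nonpos_iff_eq_zero.1 (by simpa using (hgood x hx).2.2)
  | succ n ih =>
    intro m
    induction m with
    | zero =>
      intro X _ I T hT hbT hfin hgood hcard
      refine ih {x | x ∈ bad I ∧ nuAt I x = n}.ncard X I T hT hbT hfin (fun x hx => ?_) le_rfl
      obtain ⟨h1, h2, h3⟩ := hgood x hx
      refine ⟨h1, h2, ENat.lt_add_one_iff (ENat.natCast_ne_top n) |>.1 (lt_of_le_of_ne (by simpa using h3) fun h => ?_)⟩
      have hf : {x | x ∈ bad I ∧ nuAt I x = ((n + 1 : ℕ) : ℕ∞)}.Finite := hfin.subset fun _ h => h.1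
      have h0 := (Set.ncard_eq_zero hf).1 (Nat.le_zero.1 hcard)
      exact Set.eq_empty_iff_forall_notMem.1 h0 x ⟨hx, by simpa using h⟩
    | succ m ihm =>
      intro X _ I T hT hbT hfin hgood hcard
      let S := {x | x ∈ bad I ∧ nuAt I x = ((n + 1 : ℕ) : ℕ∞)}
      have hSfin : S.Finite := hfin.subset fun _ h => h.1
      rcases S.eq_empty_or_nonempty with hS | ⟨y, hyb, hyn⟩
      · exact ihm X I T hT hbT hfin hgood (by rw [show {x | x ∈ bad I ∧ nuAt I x = ((n + 1 : ℕ) : ℕ∞)} = S from rfl, hS, Set.ncard_empty]; exact Nat.zero_le _)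
      obtain ⟨hreg, hd, hle⟩ := hgood y hyb
      haveI := hreg
      have hy := hyb.1
      obtain ⟨X', b, hb⟩ := GrothLib.BlowUp.exists_isBlowUp X (Scheme.IdealSheafData.vanishingIdeal ⟨{y}, hy⟩)
      haveI : IsProper b := GrothLib.BlowUpProper.isProper_of_isBlowUp hb
      haveI : IsNoetherian X' :=
        { toIsLocallyNoetherian := LocallyOfFiniteType.isLocallyNoetherian b,
          toCompactSpace := QuasiCompact.compactSpace_of_compactSpace b }
      obtain ⟨hfiny, hy'⟩ := blowUp_step I hy hd (by rw [hyn]; exact ENat.natCast_ne_top _) hyb.2 hb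
      let V := (Scheme.IdealSheafData.vanishingIdeal ⟨{y}, hy⟩).support.compl
      haveI : IsIso (b ∣_ V) := GrothLib.BlowUp.isIso_off_center hb
      have hV : ∀ x, b x ≠ y → b x ∈ V := fun x hx => by
        show b x ∉ ((Scheme.IdealSheafData.vanishingIdeal ⟨{y}, hy⟩).support : Set X)
        rw [Scheme.IdealSheafData.coe_support_vanishingIdeal]
        exact hx
      have hoff : ∀ x ∈ bad (I.comap b), b x ≠ y → b x ∈ bad I ∧ nuAt (I.comap b) x = nuAt I (b x) := by
        intro x hx hxy
        haveI := isIso_stalkMap_off hy hb hxy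
        refine ⟨⟨?_, ?_⟩, nuAt_comap I b x⟩
        · rw [← Set.image_singleton]
          exact b.isClosedMap _ hx.1
        · rw [← nuAt_comap I b x]
          exact hx.2
      have hinj : Set.InjOn b {x | b x ≠ y} := fun x hx x' hx' h =>
        GrothLib.ArSurf29.injective_over_open b V (hV x hx) h
      have hfin' : (bad (I.comap b)).Finite := by
        refine (hfiny.union (Set.Finite.of_finite_image (f := b) (s := {x | x ∈ bad (I.comap b) ∧ b x ≠ y})
          (hfin.subset ?_) (hinj.mono fun x hx => hx.2))).subset fun x hx => ?_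
        · rintro _ ⟨x, ⟨hx, hxy⟩, rfl⟩
          exact (hoff x hx hxy).1
        · by_cases hxy : b x = y
          · exact Or.inl ⟨hx, hxy⟩
          · exact Or.inr ⟨hx, hxy⟩
      have hgood' : ∀ x ∈ bad (I.comap b), IsRegularLocalRing (X'.presheaf.stalk x) ∧
          ringKrullDim (X'.presheaf.stalk x) = 2 ∧ nuAt (I.comap b) x ≤ ((n + 1 : ℕ) : ℕ∞) := by
        intro x hx
        by_cases hxy : b x = y
        · obtain ⟨h1, h2, h3⟩ := hy' x hx.1 hxy
          exact ⟨h1, h2, h3.le.trans hle⟩
        · obtain ⟨h1, h2⟩ := hoff x hx hxy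
          obtain ⟨g1, g2, g3⟩ := hgood _ h1
          haveI := isIso_stalkMap_off hy hb hxy
          haveI := g1
          refine ⟨IsRegularLocalRing.of_ringEquiv (R := X.presheaf.stalk (b x))
            (asIso (b.stalkMap x)).commRingCatIsoToRingEquiv, ?_, h2.trans_le g3⟩
          rw [← ringKrullDim_eq_of_ringEquiv (asIso (b.stalkMap x)).commRingCatIsoToRingEquiv, g2]
      have hT' : IsClosed (b ⁻¹' T) := hT.preimage b.continuous
      have hbT' : bad (I.comap b) ⊆ b ⁻¹' T := fun x hx => by
        by_cases hxy : b x = y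
        · show b x ∈ T
          rw [hxy]
          exact hbT hyb
        · exact hbT (hoff x hx hxy).1
      obtain ⟨X'', g, hg, hgi, hgc⟩ := ihm X' (I.comap b) (b ⁻¹' T) hT' hbT' hfin' hgood' (by
        refine Nat.le_of_lt_succ (lt_of_lt_of_le ?_ hcard)
        calc {x | x ∈ bad (I.comap b) ∧ nuAt (I.comap b) x = ((n + 1 : ℕ) : ℕ∞)}.ncard ≤ (S \ {y}).ncard := by
              refine Set.ncard_le_ncard_of_injOn b (fun x hx => ?_) (fun x hx x' hx' h => hinj ?_ ?_ h)
                hSfin.diff
              · have hxy : b x ≠ y := fun hxy => (hy' x hx.1.1 hxy).2.2.ne (hx.2.trans hyn.symm)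
                exact ⟨⟨(hoff x hx.1 hxy).1, (hoff x hx.1 hxy).2 ▸ hx.2⟩, hxy⟩
              · exact fun hxy => (hy' x hx.1.1 hxy).2.2.ne (hx.2.trans hyn.symm)
              · exact fun hxy => (hy' x' hx'.1.1 hxy).2.2.ne (hx'.2.trans hyn.symm)
          _ < S.ncard := Set.ncard_sdiff_singleton_lt_of_mem ⟨hyb, hyn⟩ hSfin)
      refine ⟨X'', g ≫ b, seq_trans hg (seq_blowUp hy hd b hb), ?_, ?_⟩
      · haveI : IsIso (b ∣_ (⟨Tᶜ, hT.isOpen_compl⟩ : X.Opens)) := by
          refine GrothLib.Nagata6.isIso_restrict_of_le b V _ ?_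
          intro w hw
          show w ∉ ((Scheme.IdealSheafData.vanishingIdeal ⟨{y}, hy⟩).support : Set X)
          rw [Scheme.IdealSheafData.coe_support_vanishingIdeal]
          intro hwy
          exact hw ((show w = y from hwy) ▸ hbT hyb)
        haveI : IsIso (g ∣_ b ⁻¹ᵁ (⟨Tᶜ, hT.isOpen_compl⟩ : X.Opens)) := hgi
        rw [morphismRestrict_comp]
        infer_instance
      · rw [Scheme.IdealSheafData.comap_comp]
        exact hgc

end GrothLib.ExcP1
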