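import Groth.Agent.Lib.ExcP1.Point
import Groth.Agent.Lib.ArSurf29.FactorBlowUpIso
import Groth.Agent.Lib.ArSurf29.RelMinExists
import Groth.Agent.Lib.ExtZTilde20.Pointwise
import Groth.Agent.Lib.BlowUpRegular.Main
import Groth.Agent.S2348

/-!
# Contraction sequences from point blow-ups
-/

universe u

set_option backward.isDefEq.respectTransparency false
set_option linter.all false

open AlgebraicGeometry CategoryTheory CategoryTheory.Limits TopologicalSpace Opposite IsLocalRing

noncomputable section

namespace GrothLib.ExcP1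

open Models (IsContractionSeq IsContractionOf IsExcCurve)

variable {X Y Z W : Scheme.{u}}

/-- The blow-up of a closed regular point of dimension two contracts an exceptional curve of the first kind. -/
theorem isContractionOf_blowUp [IsNoetherian Z] {z : Z} (hz : IsClosed ({z} : Set Z))
    [IsRegularLocalRing (Z.presheaf.stalk z)] (hd : ringKrullDim (Z.presheaf.stalk z) = 2) (b : X ⟶ Z)
    (hb : _root_.BlowUp.IsBlowUp b (Scheme.IdealSheafData.vanishingIdeal ⟨{z}, hz⟩)) :
    IsExcCurve (_root_.BlowUp.exceptional b (Scheme.IdealSheafData.vanishingIdeal ⟨{z}, hz⟩)).subschemeι ∧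
      IsContractionOf (_root_.BlowUp.exceptional b (Scheme.IdealSheafData.vanishingIdeal ⟨{z}, hz⟩)).subschemeι b := by
  haveI : IsProper b := GrothLib.BlowUpProper.isProper_of_isBlowUp hb
  set J := Scheme.IdealSheafData.vanishingIdeal ⟨{z}, hz⟩
  obtain ⟨e, -, -⟩ := exists_iso_point hz hd hb
  haveI : IsIntegral (CohB1.ProjSpace 1 (Z.residueField z)) := ProjDim.isIntegral_proj _ 1
  haveI : Nonempty (_root_.BlowUp.exceptional b J).subscheme := ⟨e.hom (genericPoint _)⟩
  refine ⟨isExcCurve_point hz hd hb, inferInstance, inferInstance, z, hz, ?_, inferInstance, hd, hb⟩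
  refine Set.Subset.antisymm ?_ ?_
  · rintro _ ⟨w, rfl⟩
    have h1 : (_root_.BlowUp.exceptional b J).subschemeι w ∈ ((_root_.BlowUp.exceptional b J).support : Set X) := by
      rw [← Scheme.IdealSheafData.range_subschemeι]; exact ⟨w, rfl⟩
    simp only [_root_.BlowUp.exceptional, Scheme.IdealSheafData.support_comap] at h1
    have h2 : b ((_root_.BlowUp.exceptional b J).subschemeι w) ∈ (J.support : Set Z) := h1
    rw [Scheme.IdealSheafData.coe_support_vanishingIdeal] at h2
    exact h2
  · rintro _ rfl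
    let w : (_root_.BlowUp.exceptional b J).subscheme := Classical.arbitrary _
    refine ⟨w, ?_⟩
    have h1 : (_root_.BlowUp.exceptional b J).subschemeι w ∈ ((_root_.BlowUp.exceptional b J).support : Set X) := by
      rw [← Scheme.IdealSheafData.range_subschemeι]; exact ⟨w, rfl⟩
    simp only [_root_.BlowUp.exceptional, Scheme.IdealSheafData.support_comap] at h1
    have h2 : b ((_root_.BlowUp.exceptional b J).subschemeι w) ∈ (J.support : Set Z) := h1
    rw [Scheme.IdealSheafData.coe_support_vanishingIdeal] at h2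
    exact h2

/-- A point blow-up followed by a contraction sequence is a contraction sequence. -/
theorem seq_blowUp_comp [IsNoetherian Z] {z : Z} (hz : IsClosed ({z} : Set Z))
    [IsRegularLocalRing (Z.presheaf.stalk z)] (hd : ringKrullDim (Z.presheaf.stalk z) = 2) (b : X ⟶ Z)
    (hb : _root_.BlowUp.IsBlowUp b (Scheme.IdealSheafData.vanishingIdeal ⟨{z}, hz⟩)) {r : Z ⟶ W}
    (hr : IsContractionSeq r) : IsContractionSeq (b ≫ r) := by
  obtain ⟨h1, h2⟩ := isContractionOf_blowUp hz hd b hb
  exact IsContractionSeq.step _ b r inferInstance h1 h2 hr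

theorem seq_blowUp [IsNoetherian Z] {z : Z} (hz : IsClosed ({z} : Set Z))
    [IsRegularLocalRing (Z.presheaf.stalk z)] (hd : ringKrullDim (Z.presheaf.stalk z) = 2) (b : X ⟶ Z)
    (hb : _root_.BlowUp.IsBlowUp b (Scheme.IdealSheafData.vanishingIdeal ⟨{z}, hz⟩)) : IsContractionSeq b := by
  simpa using seq_blowUp_comp hz hd b hb (IsContractionSeq.iso (Iso.refl Z))

theorem seq_iso_comp {r : Y ⟶ W} (hr : IsContractionSeq r) : ∀ {X : Scheme.{u}} (e : X ≅ Y),
    IsContractionSeq (e.hom ≫ r) := by
  cases hr with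
  | iso e' => exact fun e => IsContractionSeq.iso (e ≪≫ e')
  | step ι b r hι hE hb hr =>
    intro X e
    obtain ⟨hN, _, y, hy, -, hreg, hd, hblow⟩ := hb
    haveI := hN; haveI := hreg
    rw [← Category.assoc]
    exact seq_blowUp_comp hy hd _ (GrothLib.ArSurf29.isBlowUp_iso_comp hblow e.hom) hr

theorem seq_trans {r₁ : X ⟶ Y} (h₁ : IsContractionSeq r₁) :
    ∀ {W : Scheme.{u}} {r₂ : Y ⟶ W}, IsContractionSeq r₂ → IsContractionSeq (r₁ ≫ r₂) := by
  induction h₁ with
  | iso e => exact fun h₂ => seq_iso_comp h₂ e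
  | step ι b r hι hE hb hr ih =>
    intro W r₂ h₂
    rw [Category.assoc]
    exact IsContractionSeq.step ι b _ hι hE hb (ih h₂)

/-- The blow-up of a regular scheme in a closed point of dimension two is regular. -/
theorem regular_of_blowUp [IsLocallyNoetherian Z] (hreg : ∀ w : Z, IsRegularLocalRing (Z.presheaf.stalk w))
    {z : Z} (hz : IsClosed ({z} : Set Z)) (hd : ringKrullDim (Z.presheaf.stalk z) = 2) {b : X ⟶ Z}
    (hb : _root_.BlowUp.IsBlowUp b (Scheme.IdealSheafData.vanishingIdeal ⟨{z}, hz⟩)) (x : X) :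
    IsRegularLocalRing (X.presheaf.stalk x) := by
  set J := Scheme.IdealSheafData.vanishingIdeal ⟨{z}, hz⟩
  by_cases hx : b x = z
  · haveI := hreg z
    obtain ⟨V, hzV, a, ha, hw, hm⟩ := exists_affine_params hz hd
    haveI : IsRegularRing Γ(Z, V.1) := GrothLib.ExtZTilde20.isRegularRing_sections V.2 hreg
    let iX : Spec (CommRingCat.of Γ(Z, V.1)) ⟶ Z := V.2.fromSpec
    have hp := GrothLib.BlowUp.isBlowUp_flat_baseChange iX hb
    rw [show J.comap iX = GrothLib.BlowUp.idealSheaf (GrothLib.BlowUp17.ctr a) by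
      rw [GrothLib.Nagata6.comap_fromSpec, ha]] at hp
    obtain ⟨q, hq⟩ : x ∈ Set.range (pullback.snd iX b) := by
      rw [Scheme.Pullback.range_snd, show Set.range iX = (V.1 : Set Z) from V.2.range_fromSpec]
      show b x ∈ (V.1 : Set Z)
      rw [hx]
      exact hzV
    obtain ⟨i, hi⟩ := Opens.mem_iSup.1 ((iSup_U a hp).ge (Opens.mem_top q))
    obtain ⟨p, -, hpq⟩ := hi
    haveI := GrothLib.BlowUpRegular.isRegularLocalRing_chart a i hw hm p.asIdeal
    have h := GrothLib.BlowUpRegular.regular_of_chart (chartMap a hp i ≫ pullback.snd iX b) p inferInstance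
    rw [Scheme.Hom.comp_apply, show chartMap a hp i p = q from hpq, hq] at h
    exact h
  · haveI := GrothLib.BlowUp.isIso_off_center hb
    have hxU : b x ∈ J.support.compl := by
      show b x ∉ (J.support : Set Z)
      rw [Scheme.IdealSheafData.coe_support_vanishingIdeal]
      exact hx
    haveI : IsIso (b.stalkMap x) :=
      ((MorphismProperty.isomorphisms CommRingCat).arrow_mk_iso_iff (morphismRestrictStalkMap b J.support.compl ⟨x, hxU⟩)).1
        (show IsIso ((b ∣_ J.support.compl).stalkMap ⟨x, hxU⟩) from inferInstance)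
    haveI := hreg (b x)
    exact IsRegularLocalRing.of_ringEquiv (R := Z.presheaf.stalk (b x))
      (asIso (b.stalkMap x)).commRingCatIsoToRingEquiv

/-- A point blow-up of an integral regular scheme is integral. -/
theorem integral_of_blowUp [IsLocallyNoetherian Z] [IsIntegral Z] {z : Z} (hz : IsClosed ({z} : Set Z))
    [IsRegularLocalRing (Z.presheaf.stalk z)] (hd : ringKrullDim (Z.presheaf.stalk z) = 2) {b : X ⟶ Z}
    (hb : _root_.BlowUp.IsBlowUp b (Scheme.IdealSheafData.vanishingIdeal ⟨{z}, hz⟩)) : IsIntegral X := by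
  refine (Groth.Agent.S2348.result _ (fun h => ?_) b hb).choose
  obtain ⟨V, hzV, a, ha, hw, hm⟩ := exists_affine_params hz hd
  haveI : Nonempty V.1 := ⟨⟨z, hzV⟩⟩
  rw [h, Scheme.IdealSheafData.ideal_bot] at ha
  have ha0 : a 0 = 0 := by
    have : a 0 ∈ GrothLib.BlowUp17.ctr a := Ideal.subset_span ⟨0, rfl⟩
    rw [ha] at this
    simpa using this
  have h2 := (GrothLib.RegSeqLoc.isWeaklyRegular_iff_mem _).1 hw 0 (by simp) 1 (by simp [ha0])
  simp at h2

/-- The points contracted by a morphism of surfaces. -/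
def curvesOver (f : X ⟶ Y) : Set X := {x | ¬ IsClosed ({x} : Set X) ∧ IsClosed ({f x} : Set Y)}

variable [IsIntegral X] [IsNoetherian X] (hdim : topologicalKrullDim X ≤ 2)

include hdim in
/-- The non-closed points of a proper closed subset of a surface are finite in number. -/
theorem finite_nonclosed {C : Set X} (hC : IsClosed C) (hη : genericPoint X ∉ C) :
    {x : X | x ∈ C ∧ ¬ IsClosed ({x} : Set X)}.Finite := by
  haveI : QuasiSober ↥C := hC.isClosedEmbedding_subtypeVal.quasiSober
  let φ : {x : X | x ∈ C ∧ ¬ IsClosed ({x} : Set X)} → irreducibleComponents ↥C := fun x =>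
    ⟨irreducibleComponent ⟨x.1, x.2.1⟩, irreducibleComponent_mem_irreducibleComponents _⟩
  haveI : Finite (irreducibleComponents ↥C) := NoetherianSpace.finite_irreducibleComponents.to_subtype
  refine Set.finite_coe_iff.1 (Finite.of_injective φ fun x x' h => ?_)
  have key : ∀ y : {x : X | x ∈ C ∧ ¬ IsClosed ({x} : Set X)}, ∀ w,
      IsGenericPoint w ((φ y : Set ↥C)) → (w : X) = y.1 := fun y w hw => by
    by_contra hne
    obtain ⟨c, hyc, hc⟩ := GrothLib.ArSurf29.exists_isClosed_specialization y.1
    exact GrothLib.ArSurf29.no_chain_four hdim (genericPoint_specializes (w : X))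
      ((hw.specializes (mem_irreducibleComponent)).map continuous_subtype_val) hyc
      (fun h => hη (h ▸ w.2)) hne fun h => y.2.2 (h ▸ hc)
  obtain ⟨w, hw⟩ := QuasiSober.sober (S := (φ x : Set ↥C)) isIrreducible_irreducibleComponent
    isClosed_irreducibleComponent
  exact Subtype.ext ((key x w hw).symm.trans (key x' w (h ▸ hw)))

variable {f : X ⟶ Y} (V : Y.Opens) [IsIso (f ∣_ V)]

theorem mem_curvesOver_notMem {x : X} (hx : x ∈ curvesOver f) : f x ∉ V := by
  intro hxV
  refine hx.1 ?_
  have h1 : ({x} : Set X) = f ⁻¹' {f x} := by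
    refine Set.Subset.antisymm (by rintro _ rfl; rfl) fun w hw => ?_
    exact GrothLib.ArSurf29.injective_over_open f V (show f w ∈ V from (show f w = f x from hw) ▸ hxV) hw
  rw [h1]
  exact hx.2.preimage f.continuous

include hdim in
theorem finite_curvesOver [IsIntegral Y] (hV : (V : Set Y).Nonempty) (e : f (genericPoint X) = genericPoint Y) :
    (curvesOver f).Finite := by
  refine (finite_nonclosed hdim (C := f ⁻¹' (V : Set Y)ᶜ) (V.isOpen.isClosed_compl.preimage f.continuous) ?_).subset
    fun x hx => ⟨mem_curvesOver_notMem V hx, hx.1⟩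
  intro h
  obtain ⟨w, hw⟩ := hV
  apply h
  show f (genericPoint X) ∈ V
  rw [e]
  exact (genericPoint_specializes w).mem_open V.isOpen hw

theorem birational_of_iso_over [IsIntegral Y] (hV : (V : Set Y).Nonempty) :
    f (genericPoint X) = genericPoint Y ∧ Function.Bijective (f.stalkMap (genericPoint X)).hom := by
  haveI : IsOpenImmersion ((f ⁻¹ᵁ V).ι ≫ f) := by rw [← morphismRestrict_ι]; infer_instance
  refine GrothLib.Birat.birational_of_openImmersion f ⟨f ⁻¹ᵁ V, ?_, ‹_›⟩
  obtain ⟨w, hw⟩ := hV
  exact ⟨_, ((f ∣_ V).homeomorph.symm ⟨w, hw⟩).2⟩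

include hdim in
/-- A proper birational morphism of surfaces contracting no curve is an isomorphism. -/
theorem isIso_of_no_curves [IsIntegral Y] [IsProper f] (hV : (V : Set Y).Nonempty)
    (hN : ∀ y : Y, IsIntegrallyClosed (Y.presheaf.stalk y)) [IsLocallyNoetherian Y]
    (h0 : curvesOver f = ∅) : IsIso f := by
  obtain ⟨e, hb⟩ := birational_of_iso_over (f := f) V hV
  have hcl : ∀ x : X, IsClosed ({x} : Set X) → f.QuasiFiniteAt x := by
    intro x hx
    refine Scheme.Hom.quasiFiniteAt_iff_isOpen_singleton_asFiber.2 ?_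
    have hy : IsClosed ({f x} : Set Y) := by
      rw [← Set.image_singleton]
      exact f.isClosedMap _ hx
    refine GrothLib.ArSurf29.isOpen_singleton_of_isClosed_points (f.fiberι (f x)).isEmbedding ?_ (fun v hv => ?_) _
    · rw [f.range_fiberι]
      exact hy.preimage f.continuous
    rw [f.range_fiberι] at hv
    by_contra hc
    exact Set.eq_empty_iff_forall_notMem.1 h0 v ⟨hc, by rw [show f v = f x from hv]; exact hy⟩
  haveI : LocallyQuasiFinite f := by
    have hall : ∀ x, f.QuasiFiniteAt x := fun x => by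
      obtain ⟨x₀, hx₀, hcx₀⟩ := GrothLib.ArSurf29.exists_isClosed_specialization x
      exact hx₀.mem_open f.isOpen_quasiFiniteAt (hcl x₀ hcx₀)
    refine locallyQuasiFinite_iff_isDiscrete_preimage_singleton.2 fun y => ?_
    haveI : DiscreteTopology ↥(f.fiber y) := discreteTopology_iff_isOpen_singleton.2 fun a => by
      obtain ⟨v, hv⟩ : ∃ v, v = f.fiberι _ a := ⟨_, rfl⟩
      have hvy : f v = y := hv ▸ (f.range_fiberι _).le ⟨a, rfl⟩
      have h1 := Scheme.Hom.quasiFiniteAt_iff_isOpen_singleton_asFiber.1 (hall v)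
      have h2 : ∀ (y : Y) (a : ↥(f.fiber y)), y = f v → v = f.fiberι y a → IsOpen ({a} : Set ↥(f.fiber y)) := by
        rintro y a rfl hva
        rwa [show a = f.asFiber v from (f.fiberι _).isEmbedding.injective
          (hva.symm.trans (f.fiberι_asFiber v).symm)]
      exact h2 _ a hvy.symm hv
    exact ⟨(f.fiberHomeo y).symm.isEmbedding.discreteTopology⟩
  haveI : IsFinite f := IsFinite.of_isProper_of_locallyQuasiFinite _
  exact GrothLib.Birat.isIso_of_finite_birational f e hb hN

end GrothLib.ExcP1
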