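import Groth.Agent.Lib.ExcP1.Global
import Groth.Agent.Lib.ArSurf29.FactorBlowUp
import Groth.Agent.Lib.ArSurf29.FactorBlowUpScheme
import Groth.Agent.Lib.ProjDim.Const
import Groth.Agent.Lib.SchImage.Reduced

/-!
# Blow-ups of points: dimension of the centre, the exceptional divisor as a reduced subscheme
-/

universe u

set_option backward.isDefEq.respectTransparency false
set_option linter.all false

open AlgebraicGeometry CategoryTheory CategoryTheory.Limits TopologicalSpace Opposite IsLocalRing
open GrothLib.CartierDescent (stalkIdeal stalkIdeal_eq_top_iff)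

noncomputable section

namespace GrothLib.ExcP1

variable {Z : Scheme.{u}} {z : Z} (hz : IsClosed ({z} : Set Z))

include hz in
/-- A regular point with two points over it in its blow-up has dimension two, in a surface. -/
theorem dim_eq_two_of_two_points [IsLocallyNoetherian Z] [IsIntegral Z] [IsRegularLocalRing (Z.presheaf.stalk z)]
    (hd : ringKrullDim (Z.presheaf.stalk z) ≤ 2) {X : Scheme.{u}} {b : X ⟶ Z}
    (hb : _root_.BlowUp.IsBlowUp b (Scheme.IdealSheafData.vanishingIdeal ⟨{z}, hz⟩))
    (hbig : ∃ x x' : X, x ≠ x' ∧ b x = z ∧ b x' = z) :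
    ringKrullDim (Z.presheaf.stalk z) = 2 := by
  set J := Scheme.IdealSheafData.vanishingIdeal ⟨{z}, hz⟩
  have hsr := IsRegularLocalRing.spanFinrank_maximalIdeal (R := Z.presheaf.stalk z)
  by_contra hne
  have hle : (maximalIdeal (Z.presheaf.stalk z)).spanFinrank ≤ 1 := by
    rw [← hsr] at hd hne
    have h1 : (maximalIdeal (Z.presheaf.stalk z)).spanFinrank ≤ 2 := by exact_mod_cast hd
    have h2 : (maximalIdeal (Z.presheaf.stalk z)).spanFinrank ≠ 2 := fun h => hne (by exact_mod_cast h)
    omega
  obtain ⟨x, x', hxx, hx, hx'⟩ := hbig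
  by_cases h0 : maximalIdeal (Z.presheaf.stalk z) = ⊥
  · have hmem : ∀ p : Z, p ⤳ z → p = z := fun p hp => by
      obtain ⟨q, rfl⟩ : p ∈ Set.range (Z.fromSpecStalk z) := by rw [Scheme.range_fromSpecStalk]; exact hp
      haveI : Subsingleton (Spec (Z.presheaf.stalk z)) := ⟨fun a b => PrimeSpectrum.ext (by
        rw [eq_bot_iff.2 (h0 ▸ le_maximalIdeal a.isPrime.ne_top : a.asIdeal ≤ ⊥),
          eq_bot_iff.2 (h0 ▸ le_maximalIdeal b.isPrime.ne_top : b.asIdeal ≤ ⊥)])⟩
      rw [Subsingleton.elim q (closedPoint _), Scheme.fromSpecStalk_closedPoint]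
    have hη : genericPoint Z = z := hmem _ (genericPoint_specializes z)
    have hone : ∀ w : Z, w = z := fun w => (hη ▸ genericPoint_specializes w : z ⤳ w).mem_closed hz rfl
    obtain ⟨U, hxU, f, hf, hU⟩ := hb.1 x
    have hxs : x ∈ ((J.comap b).support : Set X) := by
      rw [Scheme.IdealSheafData.support_comap]
      show b x ∈ (J.support : Set Z)
      rw [Scheme.IdealSheafData.coe_support_vanishingIdeal]
      exact hone _
    have hall : ∀ w : X, w ∈ ((J.comap b).support : Set X) := fun w => by
      rw [Scheme.IdealSheafData.support_comap]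
      show b w ∈ (J.support : Set Z)
      rw [Scheme.IdealSheafData.coe_support_vanishingIdeal]
      exact hone _
    obtain ⟨t, htt⟩ := QuasiSober.sober (isIrreducible_irreducibleComponent (x := x)) isClosed_irreducibleComponent
    refine GrothLib.BlowUp.notMem_support_of_maximal hb.1 (fun y hy => ?_) (hall t)
    have h1 : irreducibleComponent x ⊆ closure {y} := htt.def ▸ (isClosed_closure.closure_subset_iff.2
      (Set.singleton_subset_iff.2 hy.mem_closure))
    have h2 : closure {y} ⊆ irreducibleComponent x :=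
      (irreducibleComponent_mem_irreducibleComponents x).2 isIrreducible_singleton.closure h1
    exact ((htt.specializes (h2 (subset_closure rfl))).antisymm hy).eq.symm
  obtain ⟨S, hScard, hspan⟩ := Submodule.FG.exists_span_finset_card_eq_spanFinrank
    (IsNoetherian.noetherian (maximalIdeal (Z.presheaf.stalk z)))
  rw [← hScard] at hle
  obtain ⟨γ, hγ⟩ : ∃ γ, maximalIdeal (Z.presheaf.stalk z) = Ideal.span {γ} := by
    rcases Finset.card_le_one_iff_subset_singleton.1 hle with ⟨γ, hγ⟩
    rcases Finset.subset_singleton_iff.1 hγ with h | h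
    · exact absurd (hspan.symm.trans (by simp [h])) h0
    · exact ⟨γ, hspan.symm.trans (by simp [h])⟩
  have hcart : _root_.BlowUp.IsEffCartierIdeal J := by
    refine GrothLib.ArSurf29.isEffCartierIdeal_of_stalks J fun w => ?_
    by_cases hw : w = z
    · subst hw
      refine ⟨γ, fun h => h0 (by rw [hγ, h, Ideal.span_singleton_eq_bot.2 rfl]), ?_⟩
      rw [GrothLib.ArSurf29.st_vanishingIdeal_point hz, hγ]
    · refine ⟨1, one_ne_zero, ?_⟩
      rw [Ideal.span_singleton_one, stalkIdeal_eq_top_iff]
      rw [← SetLike.mem_coe, Scheme.IdealSheafData.coe_support_vanishingIdeal]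
      exact hw
  obtain ⟨g, hg, -⟩ := hb.2 Z (𝟙 Z) (by rw [Scheme.IdealSheafData.comap_id]; exact hcart)
  have h1 : b ≫ g = 𝟙 X := GrothLib.BlowUp.hom_ext hb
    (by rw [Category.assoc, hg, Category.comp_id, Category.id_comp]) (by rw [Category.assoc, hg, Category.comp_id]; exact hb.1)
  have hgx : ∀ w, g (b w) = w := fun w => by rw [← Scheme.Hom.comp_apply, h1]; rfl
  exact hxx (by rw [← hgx x, ← hgx x', hx, hx'])

include hz in
/-- The exceptional divisor of a regular point of dimension two is reduced and irreducible: any integral closed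
subscheme with the same points has the same ideal. -/
theorem ker_eq_exceptional [IsLocallyNoetherian Z] [IsRegularLocalRing (Z.presheaf.stalk z)]
    (hd : ringKrullDim (Z.presheaf.stalk z) = 2) {X : Scheme.{u}} {b : X ⟶ Z}
    (hb : _root_.BlowUp.IsBlowUp b (Scheme.IdealSheafData.vanishingIdeal ⟨{z}, hz⟩))
    {E : Scheme.{u}} (ι : E ⟶ X) [IsReduced E] [IsClosedImmersion ι]
    (hE : Set.range ι.base = b.base ⁻¹' {z}) :
    ι.ker = _root_.BlowUp.exceptional b (Scheme.IdealSheafData.vanishingIdeal ⟨{z}, hz⟩) := by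
  set J := Scheme.IdealSheafData.vanishingIdeal ⟨{z}, hz⟩
  obtain ⟨e, -, -⟩ := exists_iso_point hz hd hb
  haveI : IsIntegral (CohB1.ProjSpace 1 (Z.residueField z)) := ProjDim.isIntegral_proj _ 1
  haveI : IsReduced (_root_.BlowUp.exceptional b J).subscheme := isReduced_of_isOpenImmersion e.inv
  conv_rhs => rw [← Scheme.IdealSheafData.ker_subschemeι (_root_.BlowUp.exceptional b J)]
  rw [SchImage.ker_eq_vanishingIdeal, SchImage.ker_eq_vanishingIdeal]
  congr 1
  refine Closeds.ext ?_
  show closure (Set.range ι.base) = closure (Set.range (_root_.BlowUp.exceptional b J).subschemeι.base)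
  rw [hE, Scheme.IdealSheafData.range_subschemeι]
  congr 1
  rw [_root_.BlowUp.exceptional, Scheme.IdealSheafData.support_comap]
  ext w
  show b w = z ↔ b w ∈ (J.support : Set Z)
  rw [Scheme.IdealSheafData.coe_support_vanishingIdeal]
  rfl

include hz in
/-- A reduced closed subscheme with the points of the exceptional divisor is an exceptional curve of the first kind,
isomorphic to the projective line over the residue field of the point. -/
theorem isExcCurve_of_range [IsLocallyNoetherian Z] [IsRegularLocalRing (Z.presheaf.stalk z)]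
    (hd : ringKrullDim (Z.presheaf.stalk z) = 2) {X : Scheme.{u}} {b : X ⟶ Z}
    (hb : _root_.BlowUp.IsBlowUp b (Scheme.IdealSheafData.vanishingIdeal ⟨{z}, hz⟩))
    {E : Scheme.{u}} (ι : E ⟶ X) [IsReduced E] [IsClosedImmersion ι]
    (hE : Set.range ι.base = b.base ⁻¹' {z}) :
    Models.IsExcCurve ι ∧ ∃ e : CohB1.ProjSpace 1 (Z.residueField z) ≅ E,
      e.hom ≫ ι ≫ b = CohB1.ProjSpace.toSpec 1 (Z.residueField z) ≫ Z.fromSpecResidueField z := by
  set J := Scheme.IdealSheafData.vanishingIdeal ⟨{z}, hz⟩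
  have hker := ker_eq_exceptional hz hd hb ι hE
  set Ex := _root_.BlowUp.exceptional b J with hEx
  obtain ⟨e, he, ⟨t⟩⟩ : ∃ e : CohB1.ProjSpace 1 (Z.residueField z) ≅ Ex.subscheme,
      e.hom ≫ Ex.subschemeι ≫ b = CohB1.ProjSpace.toSpec 1 (Z.residueField z) ≫ Z.fromSpecResidueField z ∧
      Nonempty ((Scheme.Modules.pullback (e.hom ≫ Ex.subschemeι)).obj (ClSub.idealMod Ex) ≅
        Twist.twistProjSpace 1 (Z.residueField z) 1) := exists_iso_point hz hd hb
  have hker' : Ex.subschemeι.ker = ι.ker := by rw [Scheme.IdealSheafData.ker_subschemeι, hker]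
  let p := IsClosedImmersion.lift Ex.subschemeι ι hker'.le
  let q := IsClosedImmersion.lift ι Ex.subschemeι hker'.ge
  have hp : p ≫ Ex.subschemeι = ι := IsClosedImmersion.lift_fac _ _ _
  have hq : q ≫ ι = Ex.subschemeι := IsClosedImmersion.lift_fac _ _ _
  let ε : Ex.subscheme ≅ E :=
    ⟨q, p, by rw [← cancel_mono Ex.subschemeι, Category.assoc, hp, hq, Category.id_comp],
      by rw [← cancel_mono ι, Category.assoc, hq, hp, Category.id_comp]⟩
  have hε : (e ≪≫ ε).hom ≫ ι = e.hom ≫ Ex.subschemeι := by rw [Iso.trans_hom, Category.assoc, hq]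
  refine ⟨⟨hker ▸ hb.1, _, inferInstance, e ≪≫ ε, ⟨?_⟩⟩, e ≪≫ ε, ?_⟩
  · exact eqToIso (by rw [hε, hker]) ≪≫ t
  · rw [← Category.assoc, hε, Category.assoc, he]

end GrothLib.ExcP1
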