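import Groth.Agent.Lib.ExcP1.Regular
import Groth.Agent.Lib.RegSeqLoc.Basic
import Groth.Agent.Lib.HodgeIndex.Pullback
import Groth.Agent.Lib.BlowUp.FlatBase

/-!
# The exceptional divisor of the blow-up of a regular point of dimension two
-/

universe u

set_option backward.isDefEq.respectTransparency false
set_option linter.all false

open AlgebraicGeometry CategoryTheory CategoryTheory.Limits TopologicalSpace Opposite IsLocalRing
open GrothLib.BlowUp17

noncomputable section

namespace GrothLib.ExcP1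

variable {Z : Scheme.{u}} {z : Z} (hz : IsClosed ({z} : Set Z))

/-- The ideal of a closed point on an affine open. -/
theorem vanishingIdeal_point_ideal (W : Z.affineOpens) (hzW : z ∈ W.1) :
    (Scheme.IdealSheafData.vanishingIdeal ⟨{z}, hz⟩).ideal W = (W.2.primeIdealOf ⟨z, hzW⟩).asIdeal ∧
      (W.2.primeIdealOf ⟨z, hzW⟩).asIdeal.IsMaximal := by
  have hpre : W.2.fromSpec ⁻¹' {z} = {W.2.primeIdealOf ⟨z, hzW⟩} := by
    ext q
    refine ⟨fun hq => W.2.fromSpec.isOpenEmbedding.injective ?_, fun hq => ?_⟩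
    · exact Eq.trans hq (W.2.fromSpec_primeIdealOf ⟨z, hzW⟩).symm
    · rw [Set.mem_singleton_iff] at hq
      subst hq
      exact W.2.fromSpec_primeIdealOf ⟨z, hzW⟩
  refine ⟨?_, ?_⟩
  · rw [Scheme.IdealSheafData.vanishingIdeal_ideal]
    show PrimeSpectrum.vanishingIdeal (W.2.fromSpec ⁻¹' {z}) = _
    rw [hpre, PrimeSpectrum.vanishingIdeal_singleton]
  · rw [← PrimeSpectrum.isClosed_singleton_iff_isMaximal]
    have := hz.preimage W.2.fromSpec.continuous
    rw [hpre] at this
    exact this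

include hz in
/-- Near a closed regular point of dimension two, two functions forming a regular sequence cut out the point. -/
theorem exists_affine_params [IsLocallyNoetherian Z] [IsRegularLocalRing (Z.presheaf.stalk z)]
    (hd : ringKrullDim (Z.presheaf.stalk z) = 2) :
    ∃ (W : Z.affineOpens) (_ : z ∈ W.1) (a : Fin (1 + 1) → Γ(Z, W.1)),
      ctr a = (Scheme.IdealSheafData.vanishingIdeal ⟨{z}, hz⟩).ideal W ∧
      RingTheory.Sequence.IsWeaklyRegular Γ(Z, W.1) (List.ofFn a) ∧ (ctr a).IsMaximal := by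
  obtain ⟨_, ⟨U, hU, rfl⟩, hzU, -⟩ :=
    Z.isBasis_affineOpens.exists_subset_of_mem_open (Set.mem_univ z) isOpen_univ
  let A := Γ(Z, U)
  haveI : IsNoetherianRing A := IsLocallyNoetherian.component_noetherian ⟨U, hU⟩
  let p := (hU.primeIdealOf ⟨z, hzU⟩).asIdeal
  letI : Algebra A (Z.presheaf.stalk z) := Z.presheaf.algebra_section_stalk (⟨z, hzU⟩ : U)
  haveI : IsLocalization.AtPrime (Z.presheaf.stalk z) p := hU.isLocalization_stalk ⟨z, hzU⟩
  obtain ⟨c, hc, hcw⟩ := exists_regular_params (Z.presheaf.stalk z) hd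
  choose x hx using fun j => IsLocalization.surj p.primeCompl (c j)
  let u : Fin (1 + 1) → Z.presheaf.stalk z := fun j => algebraMap A _ ((x j).2 : A)
  have hu : ∀ j, IsUnit (u j) := fun j => IsLocalization.map_units _ (x j).2
  let a : Fin (1 + 1) → A := fun j => (x j).1
  have hax : (fun j => algebraMap A (Z.presheaf.stalk z) (a j)) = fun j => u j * c j := by
    funext j
    exact (hx j).symm.trans (mul_comm _ _)
  have hreg : RingTheory.Sequence.IsWeaklyRegular (Z.presheaf.stalk z)
      ((List.ofFn a).map (algebraMap A (Z.presheaf.stalk z))) := by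
    rw [List.map_ofFn, show (algebraMap A (Z.presheaf.stalk z)) ∘ a = fun j => u j * c j from hax]
    exact GrothLib.RegSeqLoc.isWeaklyRegular_ofFn_mul u hu hcw
  have hI : (ctr a).map (algebraMap A (Z.presheaf.stalk z)) =
      ((Scheme.IdealSheafData.vanishingIdeal ⟨{z}, hz⟩).ideal ⟨U, hU⟩).map (algebraMap A (Z.presheaf.stalk z)) := by
    rw [(vanishingIdeal_point_ideal hz ⟨U, hU⟩ hzU).1, IsLocalization.AtPrime.map_eq_maximalIdeal p, ← hc,
      ctr, ctr, Ideal.map_span, ← Set.range_comp]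
    rw [show (algebraMap A (Z.presheaf.stalk z)) ∘ a = fun j => u j * c j from hax]
    refine le_antisymm (Ideal.span_le.2 ?_) (Ideal.span_le.2 ?_)
    · rintro _ ⟨j, rfl⟩
      exact Ideal.mul_mem_left _ _ (Ideal.subset_span ⟨j, rfl⟩)
    · rintro _ ⟨j, rfl⟩
      exact (Ideal.unit_mul_mem_iff_mem _ (hu j)).1 (Ideal.subset_span ⟨j, rfl⟩)
  obtain ⟨g₁, hg₁, h₁⟩ := GrothLib.RegSeqLoc.exists_away_isWeaklyRegular p.primeCompl _ (List.ofFn a) hreg
  obtain ⟨g₂, hg₂, h₂⟩ := GrothLib.RegSeqLoc.exists_away_eq p.primeCompl _ _ _ hI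
  let g := g₁ * g₂
  have hzW : z ∈ Z.basicOpen g := by
    rw [Scheme.mem_basicOpen _ _ _ hzU]
    exact IsLocalization.map_units (Z.presheaf.stalk z) (⟨g, mul_mem hg₁ hg₂⟩ : p.primeCompl)
  let W : Z.affineOpens := ⟨Z.basicOpen g, hU.basicOpen g⟩
  let B := Γ(Z, W.1)
  letI : Algebra A B := (Z.presheaf.map (homOfLE (Z.basicOpen_le g)).op).hom.toAlgebra
  haveI : IsLocalization.Away g B := hU.isLocalization_basicOpen g
  have hgu : IsUnit (algebraMap A B g) := IsLocalization.Away.algebraMap_isUnit g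
  rw [map_mul, IsUnit.mul_iff] at hgu
  refine ⟨W, hzW, fun j => algebraMap A B (a j), ?_, ?_, ?_⟩
  · rw [ctr, show (fun j => algebraMap A B (a j)) = (algebraMap A B) ∘ a from rfl, Set.range_comp, ← Ideal.map_span,
      ← ctr, h₂ B hgu.2]
    exact (Scheme.IdealSheafData.vanishingIdeal ⟨{z}, hz⟩).map_ideal (U := W) (V := ⟨U, hU⟩) (Z.basicOpen_le g)
  · have := h₁ (Submonoid.powers g) B hgu.1
    rwa [List.map_ofFn] at this
  · have e : ctr (fun j => algebraMap A B (a j)) = (W.2.primeIdealOf ⟨z, hzW⟩).asIdeal := by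
      rw [ctr, show (fun j => algebraMap A B (a j)) = (algebraMap A B) ∘ a from rfl, Set.range_comp,
        ← Ideal.map_span, ← ctr, h₂ B hgu.2, ← (vanishingIdeal_point_ideal hz W hzW).1]
      exact (Scheme.IdealSheafData.vanishingIdeal ⟨{z}, hz⟩).map_ideal (U := W) (V := ⟨U, hU⟩) (Z.basicOpen_le g)
    rw [e]
    exact (vanishingIdeal_point_ideal hz W hzW).2

include hz in
/-- The exceptional divisor of the blow-up of a closed regular point of dimension two is `P¹` over a field
mapping to the point, with conormal sheaf `O(1)`. -/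
theorem exists_iso_point [IsLocallyNoetherian Z] [IsRegularLocalRing (Z.presheaf.stalk z)]
    (hd : ringKrullDim (Z.presheaf.stalk z) = 2) {X : Scheme.{u}} {b : X ⟶ Z}
    (hb : _root_.BlowUp.IsBlowUp b (Scheme.IdealSheafData.vanishingIdeal ⟨{z}, hz⟩)) :
    ∃ e : CohB1.ProjSpace 1 (Z.residueField z) ≅
        (_root_.BlowUp.exceptional b (Scheme.IdealSheafData.vanishingIdeal ⟨{z}, hz⟩)).subscheme,
      e.hom ≫ (_root_.BlowUp.exceptional b (Scheme.IdealSheafData.vanishingIdeal ⟨{z}, hz⟩)).subschemeι ≫ b =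
        CohB1.ProjSpace.toSpec 1 (Z.residueField z) ≫ Z.fromSpecResidueField z ∧
      Nonempty ((Scheme.Modules.pullback (e.hom ≫
          (_root_.BlowUp.exceptional b (Scheme.IdealSheafData.vanishingIdeal ⟨{z}, hz⟩)).subschemeι)).obj
          (ClSub.idealMod (_root_.BlowUp.exceptional b (Scheme.IdealSheafData.vanishingIdeal ⟨{z}, hz⟩))) ≅
        Twist.twistProjSpace 1 (Z.residueField z) 1) := by
  obtain ⟨W, hzW, a, ha, hw, hm⟩ := exists_affine_params hz hd
  letI : Algebra Γ(Z, W.1) (Z.presheaf.stalk z) := Z.presheaf.algebra_section_stalk (⟨z, hzW⟩ : W.1)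
  haveI : IsLocalization.AtPrime (Z.presheaf.stalk z) (W.2.primeIdealOf ⟨z, hzW⟩).asIdeal :=
    W.2.isLocalization_stalk ⟨z, hzW⟩
  have hp' : ctr a = (W.2.primeIdealOf ⟨z, hzW⟩).asIdeal := ha.trans (vanishingIdeal_point_ideal hz W hzW).1
  let π : Γ(Z, W.1) →+* Z.residueField z := (Z.residue z).hom.comp (Z.presheaf.germ W.1 z hzW).hom
  have hker : RingHom.ker π = ctr a := by
    refine ((RingHom.comap_ker _ _).symm.trans ?_).trans hp'.symm
    rw [show RingHom.ker (Z.residue z).hom = maximalIdeal (Z.presheaf.stalk z) from IsLocalRing.ker_residue]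
    exact IsLocalization.AtPrime.comap_maximalIdeal (Z.presheaf.stalk z) (W.2.primeIdealOf ⟨z, hzW⟩).asIdeal
  have hπ : Function.Surjective π := by
    intro y
    obtain ⟨w, rfl⟩ := IsLocalRing.residue_surjective (R := Z.presheaf.stalk z) y
    haveI : (W.2.primeIdealOf ⟨z, hzW⟩).asIdeal.IsMaximal := (vanishingIdeal_point_ideal hz W hzW).2
    obtain ⟨y, hy⟩ := (IsLocalization.AtPrime.equivQuotMaximalIdeal (W.2.primeIdealOf ⟨z, hzW⟩).asIdeal
      (Z.presheaf.stalk z)).surjective (Ideal.Quotient.mk _ w)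
    obtain ⟨y, rfl⟩ := Ideal.Quotient.mk_surjective y
    exact ⟨y, hy⟩
  have hfrom : Z.fromSpecResidueField z = Spec.map (CommRingCat.ofHom π) ≫ W.2.fromSpec := by
    rw [Scheme.fromSpecResidueField, ← W.2.fromSpecStalk_eq_fromSpecStalk hzW, IsAffineOpen.fromSpecStalk,
      ← Spec.map_comp_assoc]
    rfl
  let J := Scheme.IdealSheafData.vanishingIdeal ⟨{z}, hz⟩
  let iX : Spec (CommRingCat.of Γ(Z, W.1)) ⟶ Z := W.2.fromSpec
  have hI : J.comap iX = GrothLib.BlowUp.idealSheaf (ctr a) := by
    rw [GrothLib.Nagata6.comap_fromSpec, ha]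
  have hp := GrothLib.BlowUp.isBlowUp_flat_baseChange iX hb
  rw [hI] at hp
  obtain ⟨e', he', ⟨t⟩⟩ := exists_iso_projSpace a hp π hπ hker hw
  let j := pullback.snd iX b
  let E := _root_.BlowUp.exceptional b J
  let E' := exc a (pullback.fst iX b)
  have hcomap : E' = E.comap j := by
    show (GrothLib.BlowUp.idealSheaf (ctr a)).comap _ = (J.comap b).comap j
    rw [← hI, ← Scheme.IdealSheafData.comap_comp, ← Scheme.IdealSheafData.comap_comp, pullback.condition]
  have hrange : Set.range E.subschemeι ⊆ Set.range j := by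
    rintro _ ⟨w, rfl⟩
    rw [Scheme.Pullback.range_snd, show Set.range iX = (W.1 : Set Z) from W.2.range_fromSpec]
    have hmem : b (E.subschemeι w) ∈ (J.support : Set Z) := by
      have h1 : E.subschemeι w ∈ (E.support : Set X) := by
        rw [← Scheme.IdealSheafData.range_subschemeι]; exact ⟨w, rfl⟩
      simp only [E, _root_.BlowUp.exceptional, Scheme.IdealSheafData.support_comap] at h1
      exact h1
    rw [Scheme.IdealSheafData.coe_support_vanishingIdeal] at hmem
    show b (E.subschemeι w) ∈ (W.1 : Set Z)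
    rw [show b (E.subschemeι w) = z from hmem]
    exact hzW
  let p := pullback.snd j E.subschemeι
  haveI : Surjective p := ⟨fun w => by
    have h1 : w ∈ Set.range p := by
      rw [Scheme.Pullback.range_snd]
      exact hrange ⟨w, rfl⟩
    exact h1⟩
  haveI : IsIso p := by
    rw [isIso_iff_isOpenImmersion_and_epi_base]
    exact ⟨inferInstance, (TopCat.epi_iff_surjective _).2 p.surjective⟩
  let ε : E'.subscheme ≅ E.subscheme := eqToIso (by rw [hcomap]) ≪≫ E.comapIso j ≪≫ asIso p
  have hε : ε.hom ≫ E.subschemeι = E'.subschemeι ≫ j := by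
    have key : ∀ (K : (pullback iX b).IdealSheafData) (h : K = E.comap j),
        (eqToIso (show K.subscheme = (E.comap j).subscheme by rw [h]) ≪≫ E.comapIso j ≪≫ asIso p).hom ≫ E.subschemeι =
          K.subschemeι ≫ j := by
      rintro _ rfl
      simp only [eqToIso_refl, Iso.trans_hom, Iso.refl_hom, Category.id_comp, asIso_hom, Category.assoc, p]
      rw [← pullback.condition, Scheme.IdealSheafData.comapIso_hom_fst_assoc]
    exact key E' hcomap
  refine ⟨e' ≪≫ ε, ?_, ?_⟩
  · rw [Iso.trans_hom, Category.assoc, ← Category.assoc ε.hom, hε, Category.assoc]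
    show e'.hom ≫ E'.subschemeι ≫ pullback.snd iX b ≫ b = _
    rw [← pullback.condition, ← Category.assoc E'.subschemeι, ← Category.assoc e'.hom]
    refine (congrArg (· ≫ iX) he').trans ?_
    rw [Category.assoc, hfrom]
  · have hinv : PicF.IsInvertible (ClSub.idealMod E.subschemeι.ker) := by
      rw [Scheme.IdealSheafData.ker_subschemeι]
      exact GrothLib.IdealModSec.isInvertible_of_isEffCartier hb.1
    have hinv' : PicF.IsInvertible (ClSub.idealMod E'.subschemeι.ker) := by
      rw [Scheme.IdealSheafData.ker_subschemeι]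
      exact GrothLib.IdealModSec.isInvertible_of_isEffCartier hp.1
    obtain ⟨φ⟩ := GrothLib.HodgeIndex.nonempty_pullback_idealMod E.subschemeι E'.subschemeι ε.hom j hε.symm
      (by rw [Scheme.IdealSheafData.ker_subschemeι, Scheme.IdealSheafData.ker_subschemeι]; exact hcomap) hinv hinv'
    exact ⟨eqToIso (by rw [Iso.trans_hom, Category.assoc, hε, ← Category.assoc,
        show E.subschemeι.ker = E from Scheme.IdealSheafData.ker_subschemeι E]) ≪≫
      ((Scheme.Modules.pullbackComp (e'.hom ≫ E'.subschemeι) j).app (ClSub.idealMod E.subschemeι.ker)).symm ≪≫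
      (Scheme.Modules.pullback (e'.hom ≫ E'.subschemeι)).mapIso φ ≪≫
      eqToIso (by rw [show E'.subschemeι.ker = E' from Scheme.IdealSheafData.ker_subschemeι E']) ≪≫ t⟩

include hz in
/-- The exceptional divisor of the blow-up of a closed regular point of dimension two is an exceptional curve
of the first kind. -/
theorem isExcCurve_point [IsLocallyNoetherian Z] [IsRegularLocalRing (Z.presheaf.stalk z)]
    (hd : ringKrullDim (Z.presheaf.stalk z) = 2) {X : Scheme.{u}} {b : X ⟶ Z}
    (hb : _root_.BlowUp.IsBlowUp b (Scheme.IdealSheafData.vanishingIdeal ⟨{z}, hz⟩)) :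
    Models.IsExcCurve (_root_.BlowUp.exceptional b (Scheme.IdealSheafData.vanishingIdeal ⟨{z}, hz⟩)).subschemeι := by
  obtain ⟨e, -, ⟨t⟩⟩ := exists_iso_point hz hd hb
  refine ⟨by rw [Scheme.IdealSheafData.ker_subschemeι]; exact hb.1, _, inferInstance, e, ⟨?_⟩⟩
  exact eqToIso (by rw [Scheme.IdealSheafData.ker_subschemeι]) ≪≫ t

end GrothLib.ExcP1
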