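import Groth.Agent.Lib.ExcP1.Exceptional
import Groth.Agent.Lib.RegLoc.Basic

/-! # Two regular parameters -/

universe u

set_option linter.all false

open AlgebraicGeometry IsLocalRing GrothLib.BlowUp17

noncomputable section

namespace GrothLib.ExcP1

theorem exists_regular_params (A : Type u) [CommRing A] [IsRegularLocalRing A] (hA : ringKrullDim A = 2) :
    ∃ a : Fin (1 + 1) → A, ctr a = maximalIdeal A ∧ RingTheory.Sequence.IsWeaklyRegular A (List.ofFn a) := by
  obtain ⟨z, hz⟩ := GrothLib.RegLoc.exists_generators_fin (maximalIdeal A)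
  have h2 : (maximalIdeal A).spanFinrank = 1 + 1 := by
    have := IsRegularLocalRing.spanFinrank_maximalIdeal (R := A)
    rw [hA] at this
    exact_mod_cast this
  have hw := GrothLib.RegLoc.isWeaklyRegular_ofFn _ A rfl z hz
  generalize (maximalIdeal A).spanFinrank = d at z hz hw h2
  subst h2
  exact ⟨z, hz, hw⟩

end GrothLib.ExcP1
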