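import Groth.Agent.Lib.Ample.ProjSections
import Groth.Agent.Lib.Ample.Immersion

/-!
# Morphisms to projective space given by ratios: pullback of `O(1)`, closed immersions, isomorphisms
-/

universe u

set_option backward.isDefEq.respectTransparency false
set_option linter.all false

open AlgebraicGeometry CategoryTheory CategoryTheory.Limits TopologicalSpace Opposite MvPolynomial
open GrothLib.InvExt (mres IsGen)

noncomputable section

namespace GrothLib.ExcP1

open GrothLib.Ample GrothLib.Ample.ProjMap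

variable {n : ℕ} {R : Type u} [CommRing R] {Z : Scheme.{u}} {q : Z ⟶ Spec (CommRingCat.of R)} (D : Data n q)

/-- A module with generators on the pieces, related by the ratios, is the pullback of `O(1)`. -/
theorem nonempty_pullback_iso {L : Z.Modules} (m : ∀ i, Γ(L, D.U i)) (hgen : ∀ i, IsGen L (D.U i) (m i))
    (hm : ∀ (i k : Fin (n + 1)) (W : Z.Opens) (hi : W ≤ D.U i) (hk : W ≤ D.U k),
      mres L hk (m k) = res hi (D.φ i k) • mres L hi (m i)) :
    Nonempty ((Scheme.Modules.pullback D.map).obj (Twist.twistProjSpace n R 1) ≅ L) := by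
  let r := D.map
  let P := pcoc n R
  have hpre : ∀ i : ULift.{u} (Fin (n + 1)), r ⁻¹ᵁ P.D i = D.U i.down := fun i => D.map_preimage i.down
  let m' : ∀ i, Γ((Scheme.Modules.pushforward r).obj L, P.D i) := fun i =>
    mres L (hpre i).le (m i.down)
  have happ : ∀ (i k : ULift.{u} (Fin (n + 1))) {W : (Proj (CohB1.polyGrading n R)).Opens} (hi : W ≤ P.D i)
      (hk : W ≤ P.D k), (r.appLE W (r ⁻¹ᵁ W) le_rfl).hom (P.G i k hi hk) =
        res ((r.preimage_mono hi).trans (hpre i).le) (D.φ i.down k.down) := fun i k W hi hk => by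
    refine (congrArg (r.appLE W (r ⁻¹ᵁ W) le_rfl).hom (g_pcoc i k hi hk)).trans ?_
    refine (appLE_res r hi le_rfl _).trans ?_
    exact D.map_appLE_ratio i.down k.down _ _
  have hfam : P.IsFamily 1 (M := (Scheme.Modules.pushforward r).obj L) m' := fun i k W hi hk => by
    show mres L (r.preimage_mono hk) (m' k) = _
    refine Eq.trans ?_ (pushforward_smul r L (P.G i k hi hk ^ 1) (mres L (r.preimage_mono hi) (m' i))).symm
    rw [pow_one, happ i k hi hk, InvExt.mres_mres, InvExt.mres_mres]
    exact hm i.down k.down _ _ _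
  let ψ := P.homOfFamily hfam
  have hψ : ∀ i, ψ.app (P.D i) (P.base 1 i le_rfl) = m' i := fun i =>
    (P.homOfFamily_base hfam i le_rfl).trans (InvExt.mres_self _ _)
  let adj := Scheme.Modules.pullbackPushforwardAdjunction r
  have hgen' : ∀ i, IsGen L (r ⁻¹ᵁ P.D i) (ψ.app (P.D i) (P.base 1 i le_rfl)) := fun i => by
    rw [hψ]; exact (hgen i.down).restrict (hpre i).le
  haveI := P.isIso_of_isGen r ψ hgen'
  let τ0 := (adj.homEquiv (P.twist 1) L).symm ψ
  exact ⟨(Scheme.Modules.pullback r).mapIso (pcocIso n R) ≪≫ asIso τ0⟩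

/-- The ratio algebra of a piece. -/
def pieceHom (i : Fin (n + 1)) : MvPolynomial {j : Fin (n + 1) // j ≠ i} R →+* Γ(Z, D.U i) :=
  eval₂Hom ((res (le_top : D.U i ≤ ⊤)).comp (ProjUP.toGlobal q)) fun j => D.φ i j.1

/-- The chart of projective space as a polynomial algebra in the ratios. -/
def chartHom (n : ℕ) (R : Type u) [CommRing R] (i : Fin (n + 1)) :
    MvPolynomial {j : Fin (n + 1) // j ≠ i} R →+*
      HomogeneousLocalization.Away (CohB1.polyGrading n R) (X i) :=
  eval₂Hom (cst (X i)) fun j => ratio i j.1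

theorem chartHom_surjective (i : Fin (n + 1)) : Function.Surjective (chartHom n R i) := by
  classical
  intro z
  obtain ⟨a, rfl⟩ := exists_eval_ratio i z
  refine ⟨aeval (fun j => if h : j = i then (1 : MvPolynomial {j : Fin (n + 1) // j ≠ i} R) else X ⟨j, h⟩) a, ?_⟩
  refine RingHom.congr_fun (f := (chartHom n R i).comp (aeval (fun j => if h : j = i then
    (1 : MvPolynomial {j : Fin (n + 1) // j ≠ i} R) else X ⟨j, h⟩)).toRingHom) ?_ a
  refine MvPolynomial.ringHom_ext (fun r => by simp [chartHom]) fun j => ?_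
  rcases eq_or_ne j i with rfl | hj
  · simp only [RingHom.comp_apply, AlgHom.toRingHom_eq_coe, RingHom.coe_coe, aeval_X, dite_true, map_one,
      eval₂Hom_X']
    exact (HomogeneousLocalization.val_injective _ (by
      rw [ratio, HomogeneousLocalization.Away.val_mk, HomogeneousLocalization.val_one, Localization.mk_eq_mk',
        IsLocalization.mk'_eq_iff_eq_mul]
      simp)).symm
  · simp [chartHom, hj]

theorem g_comp_chartHom (i : Fin (n + 1)) : (D.g i).comp (chartHom n R i) = pieceHom D i := by
  refine MvPolynomial.ringHom_ext (fun r => ?_) fun j => ?_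
  · simp [chartHom, pieceHom, Data.g_cst]
  · simp [chartHom, pieceHom, Data.g_ratio]

theorem g_surjective (i : Fin (n + 1)) (h : Function.Surjective (pieceHom D i)) :
    Function.Surjective (D.g i) := by
  rw [← g_comp_chartHom, RingHom.coe_comp] at h
  exact h.of_comp

theorem g_bijective (i : Fin (n + 1)) (h : Function.Bijective (pieceHom D i)) :
    Function.Bijective (D.g i) := by
  refine ⟨fun x y hxy => ?_, g_surjective D i h.2⟩
  obtain ⟨a, rfl⟩ := chartHom_surjective i x
  obtain ⟨b, rfl⟩ := chartHom_surjective i y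
  rw [← RingHom.comp_apply, ← RingHom.comp_apply, g_comp_chartHom] at hxy
  rw [h.1 hxy]

/-- On a chart the morphism is the spectrum of the chart homomorphism. -/
theorem exists_morphismRestrict (i : Fin (n + 1)) (hU : IsAffineOpen (D.U i)) :
    ∃ (a : (D.map ⁻¹ᵁ Proj.basicOpen (CohB1.polyGrading n R) (X i) : Scheme.{u}) ⟶
        Spec (CommRingCat.of Γ(Z, D.U i)))
      (b : Spec (CommRingCat.of (HomogeneousLocalization.Away (CohB1.polyGrading n R) (X i))) ⟶
        (Proj.basicOpen (CohB1.polyGrading n R) (X i) : Scheme.{u})),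
      IsIso a ∧ IsIso b ∧ D.map ∣_ Proj.basicOpen (CohB1.polyGrading n R) (X i) =
        a ≫ Spec.map (CommRingCat.ofHom (D.g i)) ≫ b := by
  haveI : IsAffine (D.U i : Scheme.{u}) := hU
  let e := Z.isoOfEq (D.map_preimage i)
  let t : (D.U i : Scheme.{u}) ⟶ Spec (CommRingCat.of Γ(Z, D.U i)) :=
    (D.U i : Scheme.{u}).toSpecΓ ≫ Spec.map (D.U i).topIso.inv
  let b0 := (Proj.basicOpenIsoSpec (CohB1.polyGrading n R) (X i) (X_mem i) one_pos).inv
  refine ⟨e.hom ≫ t, b0, inferInstance, inferInstance, ?_⟩
  rw [← cancel_mono (Proj.basicOpen (CohB1.polyGrading n R) (X i)).ι, morphismRestrict_ι]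
  have hb : b0 ≫ (Proj.basicOpen (CohB1.polyGrading n R) (X i)).ι =
      Proj.awayι (CohB1.polyGrading n R) (X i) (X_mem i) one_pos := rfl
  simp only [Category.assoc, hb]
  rw [← Z.isoOfEq_hom_ι (D.map_preimage i), Category.assoc]
  refine congrArg (e.hom ≫ ·) ?_
  rw [D.ι_map]
  simp only [Data.piece, ProjPt.pt, t, Category.assoc, ← Spec.map_comp_assoc]
  rfl

/-- Affine pieces with surjective ratio maps give a closed immersion. -/
theorem isClosedImmersion_map (hU : ∀ i, IsAffineOpen (D.U i)) (h : ∀ i, Function.Surjective (pieceHom D i)) :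
    IsClosedImmersion D.map := by
  refine IsZariskiLocalAtTarget.of_iSup_eq_top (P := @IsClosedImmersion)
    (fun i : Fin (n + 1) => Proj.basicOpen (CohB1.polyGrading n R) (X i)) (iSup_basicOpen_X n R) fun i => ?_
  obtain ⟨a, b, _, _, e⟩ := exists_morphismRestrict D i (hU i)
  rw [e]
  haveI : IsClosedImmersion (Spec.map (CommRingCat.ofHom (D.g i))) :=
    IsClosedImmersion.spec_of_surjective _ (g_surjective D i (h i))
  infer_instance

/-- Affine pieces with bijective ratio maps give an isomorphism. -/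
theorem isIso_map (hU : ∀ i, IsAffineOpen (D.U i)) (h : ∀ i, Function.Bijective (pieceHom D i)) :
    IsIso D.map := by
  refine IsZariskiLocalAtTarget.of_iSup_eq_top (P := MorphismProperty.isomorphisms Scheme.{u})
    (fun i : Fin (n + 1) => Proj.basicOpen (CohB1.polyGrading n R) (X i)) (iSup_basicOpen_X n R) fun i => ?_
  obtain ⟨a, b, _, _, e⟩ := exists_morphismRestrict D i (hU i)
  rw [e]
  haveI : IsIso (CommRingCat.ofHom (D.g i)) := (ConcreteCategory.isIso_iff_bijective _).2 (g_bijective D i (h i))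
  exact (inferInstance : IsIso (a ≫ Spec.map (CommRingCat.ofHom (D.g i)) ≫ b))

end GrothLib.ExcP1
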