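import Groth.Agent.Lib.ExcP1.DataMap
import Groth.Agent.Lib.BlowUp17.RegularAlg
import Groth.Agent.Lib.BlowUp.Functorial
import Groth.Agent.Lib.Nagata6.Charts
import Groth.Agent.Lib.IdealModSec.Basic
import Groth.Agent.Lib.PicAff28.Basic
import Groth.Prelude.Def_ModelsG

/-!
# The blow-up of an affine scheme in a finite list of generators inside projective space
-/

universe u

set_option backward.isDefEq.respectTransparency false
set_option linter.all false

open AlgebraicGeometry CategoryTheory CategoryTheory.Limits TopologicalSpace Opposite MvPolynomial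
open GrothLib.InvExt (mres IsGen)

noncomputable section

namespace GrothLib.ExcP1

open GrothLib.BlowUp17 GrothLib.Ample GrothLib.Ample.ProjMap

variable {A : Type u} [CommRing A] {n : ℕ} (a : Fin (n + 1) → A) {X : Scheme.{u}}
  {b : X ⟶ Spec (CommRingCat.of A)} (hb : _root_.BlowUp.IsBlowUp b (GrothLib.BlowUp.idealSheaf (ctr a)))

/-- The chart of the `i`th generator. -/
def chartMap (i : Fin (n + 1)) : Spec (CommRingCat.of (Chart a i)) ⟶ X :=
  (GrothLib.BlowUp.chartsOfIsBlowUp hb).j ⟨a i, Ideal.subset_span ⟨i, rfl⟩⟩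

instance (i : Fin (n + 1)) : IsOpenImmersion (chartMap a hb i) :=
  (GrothLib.BlowUp.chartsOfIsBlowUp hb).isOpenImmersion _

theorem chartMap_comp (i : Fin (n + 1)) :
    chartMap a hb i ≫ b = Spec.map (CommRingCat.ofHom (algebraMap A (Chart a i))) :=
  (GrothLib.BlowUp.chartsOfIsBlowUp hb).comp _

/-- The open piece of the `i`th generator. -/
abbrev U (i : Fin (n + 1)) : X.Opens := chartMap a hb i ''ᵁ ⊤

theorem isAffineOpen_U (i : Fin (n + 1)) : IsAffineOpen (U a hb i) :=
  (isAffineOpen_top _).image_of_isOpenImmersion _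

/-- Functions on a piece. -/
def ψ (i : Fin (n + 1)) : CommRingCat.of (Chart a i) ≅ Γ(X, U a hb i) :=
  (Scheme.ΓSpecIso _).symm ≪≫ ((chartMap a hb i).appIso ⊤).symm

theorem U_le (i : Fin (n + 1)) : U a hb i ≤ b ⁻¹ᵁ ⊤ := fun _ _ => trivial

/-- The image of an element of the base on a piece. -/
def img (V : X.Opens) : A →+* Γ(X, V) := (res (le_top : V ≤ ⊤)).comp (ProjUP.toGlobal b)

theorem res_img {V W : X.Opens} (h : W ≤ V) (r : A) :
    res h (img (b := b) V r) = img (b := b) W r := by
  simp only [img, RingHom.comp_apply]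
  exact res_res _ _ _

theorem ψ_algebraMap (i : Fin (n + 1)) (r : A) :
    (ψ a hb i).hom (algebraMap A (Chart a i) r) = img (b := b) (U a hb i) r := by
  have hnat := congrArg (fun f => f.hom r)
    (Scheme.ΓSpecIso_inv_naturality (CommRingCat.ofHom (algebraMap A (Chart a i))))
  simp only [CommRingCat.hom_comp, RingHom.comp_apply, CommRingCat.hom_ofHom] at hnat
  show ((chartMap a hb i).appIso ⊤).inv ((Scheme.ΓSpecIso _).inv (algebraMap A (Chart a i) r)) = _
  refine (ConcreteCategory.bijective_of_isIso ((chartMap a hb i).appIso ⊤).hom).1 ?_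
  rw [Iso.inv_hom_id_apply]
  refine hnat.trans ?_
  have e : ∀ (φ : Spec (CommRingCat.of (Chart a i)) ⟶ Spec (CommRingCat.of A)), φ = chartMap a hb i ≫ b →
      φ.appTop ((Scheme.ΓSpecIso (CommRingCat.of A)).inv r) =
        ((chartMap a hb i).appIso ⊤).hom (img (b := b) (U a hb i) r) := by
    rintro _ rfl
    rw [Scheme.Hom.comp_appTop, CommRingCat.comp_apply]
    simp only [img, RingHom.comp_apply, ProjUP.toGlobal, Scheme.Hom.appIso_hom', res]
    rw [← CommRingCat.comp_apply (X.presheaf.map _), Scheme.Hom.map_appLE]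
    rw [Scheme.Hom.appTop, Scheme.Hom.app_eq_appLE]
    rfl
  exact e _ (chartMap_comp a hb i).symm

theorem ψ_surjective (i : Fin (n + 1)) : Function.Surjective (ψ a hb i).hom :=
  (ConcreteCategory.bijective_of_isIso (ψ a hb i).hom).2

theorem img_mem_nonZeroDivisors (i : Fin (n + 1)) :
    img (b := b) (U a hb i) (a i) ∈ nonZeroDivisors Γ(X, U a hb i) := by
  rw [← ψ_algebraMap]
  exact GrothLib.BlowUp.mem_nonZeroDivisors_of_flat _
    (RingHom.Flat.of_bijective (ConcreteCategory.bijective_of_isIso (ψ a hb i).hom))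
    (GrothLib.BlowUp.algebraMap_mem_nonZeroDivisors _)

theorem ideal_U (i : Fin (n + 1)) :
    (_root_.BlowUp.exceptional b (GrothLib.BlowUp.idealSheaf (ctr a))).ideal ⟨U a hb i, isAffineOpen_U a hb i⟩ =
      Ideal.span {img (b := b) (U a hb i) (a i)} := by
  refine (GrothLib.BlowUp.ideal_comap_eq_map _ b ⟨⊤, isAffineOpen_top _⟩
    ⟨U a hb i, isAffineOpen_U a hb i⟩ (U_le a hb i)).trans ?_
  rw [GrothLib.BlowUp.ideal_idealSheaf_top, Ideal.map_map]
  have e : (b.appLE ⊤ (U a hb i) (U_le a hb i)).hom.comp (Scheme.ΓSpecIso (CommRingCat.of A)).inv.hom =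
      (ψ a hb i).hom.hom.comp (algebraMap A (Chart a i)) := by
    refine RingHom.ext fun r => Eq.trans ?_ (ψ_algebraMap a hb i r).symm
    simp only [img, ProjUP.toGlobal, RingHom.comp_apply, Scheme.Hom.appLE, Scheme.Hom.appTop,
      CommRingCat.comp_apply, res]
    rfl
  erw [e]
  rw [← Ideal.map_map, GrothLib.BlowUp.map_eq_span (a i) (show a i ∈ ctr a from Ideal.subset_span (Set.mem_range_self i)),
    Ideal.map_span, Set.image_singleton]
  congr 2
  exact ψ_algebraMap a hb i (a i)

/-- The ratio of two generators. -/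
def φ (i k : Fin (n + 1)) : Γ(X, U a hb i) := (ψ a hb i).hom (fr a i k)

theorem img_mul_φ (i k : Fin (n + 1)) :
    φ a hb i k * img (b := b) (U a hb i) (a i) = img (b := b) (U a hb i) (a k) := by
  rw [← ψ_algebraMap a hb i (a i), ← ψ_algebraMap a hb i (a k), φ, ← map_mul, mul_comm, mul_fr]

/-- The ideal sheaf of the exceptional divisor. -/
abbrev I := ClSub.idealMod (_root_.BlowUp.exceptional b (GrothLib.BlowUp.idealSheaf (ctr a)))

/-- The generator on a piece. -/
def gen (i : Fin (n + 1)) : Γ(I (b := b) a, U a hb i) :=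
  (GrothLib.IdealModSec.exists_val_eq _ ⟨U a hb i, isAffineOpen_U a hb i⟩
    ((ideal_U a hb i).ge (Ideal.mem_span_singleton_self _))).choose

theorem val_gen (i : Fin (n + 1)) :
    GrothLib.IdealModSec.val (_root_.BlowUp.exceptional b (GrothLib.BlowUp.idealSheaf (ctr a)))
      (U a hb i) (gen a hb i) = img (b := b) (U a hb i) (a i) :=
  (GrothLib.IdealModSec.exists_val_eq _ ⟨U a hb i, isAffineOpen_U a hb i⟩
    ((ideal_U a hb i).ge (Ideal.mem_span_singleton_self _))).choose_spec

theorem isGen_gen (i : Fin (n + 1)) : IsGen (I (b := b) a) (U a hb i) (gen a hb i) :=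
  GrothLib.IdealModSec.isGen_of_cartierOn (U := ⟨U a hb i, isAffineOpen_U a hb i⟩)
    (by rw [val_gen]; exact img_mem_nonZeroDivisors a hb i) (by rw [val_gen]; exact ideal_U a hb i)

theorem mres_gen (i k : Fin (n + 1)) (W : X.Opens) (hi : W ≤ U a hb i) (hk : W ≤ U a hb k) :
    mres (I (b := b) a) hk (gen a hb k) = res hi (φ a hb i k) • mres (I (b := b) a) hi (gen a hb i) := by
  refine GrothLib.IdealModSec.val_injective _ W ?_
  rw [GrothLib.IdealModSec.val_smul, GrothLib.IdealModSec.val_mres, GrothLib.IdealModSec.val_mres,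
    val_gen, val_gen]
  show res hk (img (b := b) _ (a k)) = res hi (φ a hb i k) * res hi (img (b := b) _ (a i))
  rw [← map_mul, img_mul_φ, res_img, res_img]

theorem φ_self (i : Fin (n + 1)) : φ a hb i i = 1 := by rw [φ, fr_self, map_one]

theorem φ_change (i j k : Fin (n + 1)) (W : X.Opens) (hi : W ≤ U a hb i) (hj : W ≤ U a hb j) :
    res hi (φ a hb i k) = res hi (φ a hb i j) * res hj (φ a hb j k) := by
  have key : ∀ (W' : X.Opens) (h' : W' ≤ W) (hk : W' ≤ U a hb k),
      res (h'.trans hi) (φ a hb i k) = res (h'.trans hi) (φ a hb i j) * res (h'.trans hj) (φ a hb j k) := by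
    intro W' h' hk
    refine (isGen_gen a hb i).smul_left_injective (h'.trans hi) ?_
    show res _ (φ a hb i k) • mres _ _ (gen a hb i) = (_ * _) • mres _ _ (gen a hb i)
    rw [← mres_gen a hb i k W' (h'.trans hi) hk, mul_comm, mul_smul, ← mres_gen a hb i j W' (h'.trans hi) (h'.trans hj),
      ← mres_gen a hb j k W' (h'.trans hj) hk]
  refine (isGen_gen a hb i).smul_left_injective hi ?_
  show res hi (φ a hb i k) • mres _ hi (gen a hb i) = (_ * _) • mres _ hi (gen a hb i)
  rw [mul_comm, mul_smul, ← mres_gen a hb i j W hi hj]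
  refine GrothLib.IdealModSec.val_injective _ W ?_
  rw [GrothLib.IdealModSec.val_smul, GrothLib.IdealModSec.val_smul, GrothLib.IdealModSec.val_mres,
    GrothLib.IdealModSec.val_mres, val_gen, val_gen]
  show res hi (φ a hb i k) * res hi (img (b := b) _ (a i)) = res hj (φ a hb j k) * res hj (img (b := b) _ (a j))
  rw [← map_mul, ← map_mul, img_mul_φ, img_mul_φ, res_img, res_img]

theorem basicOpen_φ (i j : Fin (n + 1)) : X.basicOpen (φ a hb i j) = U a hb i ⊓ U a hb j := by
  refine le_antisymm (fun x hx => ?_) ?_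
  · have hxU : x ∈ U a hb i := X.basicOpen_le _ hx
    refine ⟨hxU, ?_⟩
    obtain ⟨q, -, rfl⟩ := hxU
    have h1 : q ∈ (Spec (CommRingCat.of (Chart a i))).basicOpen
        ((Scheme.ΓSpecIso (CommRingCat.of (Chart a i))).inv (fr a i j)) := by
      have h2 : q ∈ chartMap a hb i ⁻¹ᵁ X.basicOpen (φ a hb i j) := hx
      rw [φ, ψ] at h2
      simp only [Iso.trans_hom, Iso.symm_hom, CommRingCat.comp_apply] at h2
      erw [← Scheme.image_basicOpen, Scheme.Hom.preimage_image_eq] at h2
      exact h2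
    rw [basicOpen_eq_of_affine] at h1
    simp only [Iso.inv_hom_id_apply] at h1
    have h3 := (GrothLib.BlowUp.chartsOfIsBlowUp hb).overlap ⟨a j, Ideal.subset_span ⟨j, rfl⟩⟩
      ⟨a i, Ideal.subset_span ⟨i, rfl⟩⟩ q h1
    obtain ⟨q', hq'⟩ := h3
    exact ⟨q', trivial, hq'⟩
  · intro x hx
    let W := U a hb i ⊓ U a hb j
    have h1 : res (inf_le_left : W ≤ U a hb i) (φ a hb i j) * res (inf_le_right : W ≤ U a hb j) (φ a hb j i) = 1 := by
      rw [← φ_change a hb i j i W inf_le_left inf_le_right, φ_self, map_one]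
    have h2 : X.basicOpen (res (inf_le_left : W ≤ U a hb i) (φ a hb i j)) = W :=
      X.basicOpen_of_isUnit (IsUnit.of_mul_eq_one _ h1)
    rw [res, Scheme.basicOpen_res] at h2
    exact (h2.ge hx).2

theorem iSup_U : ⨆ i, U a hb i = ⊤ := by
  refine top_unique fun x _ => ?_
  let C := GrothLib.BlowUp.chartsOfIsBlowUp hb
  obtain ⟨c, t, rfl⟩ := C.covers x
  obtain ⟨w, hw⟩ := (Ideal.mem_span_range_iff_exists_fun).1 c.2
  obtain ⟨k, hk⟩ : ∃ k, GrothLib.BlowUp.frac (c : A) (⟨a k, Ideal.subset_span ⟨k, rfl⟩⟩ : ctr a) ∉ t.asIdeal := by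
    by_contra! H
    refine t.isPrime.ne_top ((Ideal.eq_top_iff_one _).2 ?_)
    have h1 : (1 : ↥(_root_.BlowUp.affineAlgebra A (ctr a) (c : A))) =
        ∑ k, algebraMap A _ (w k) * GrothLib.BlowUp.frac (c : A) (⟨a k, Ideal.subset_span ⟨k, rfl⟩⟩ : ctr a) := by
      refine (mul_cancel_left_mem_nonZeroDivisors
        (GrothLib.BlowUp.algebraMap_mem_nonZeroDivisors (I := ctr a) (c : A))).1 ?_
      rw [mul_one, Finset.mul_sum]
      refine (congrArg (algebraMap A ↥(_root_.BlowUp.affineAlgebra A (ctr a) (c : A))) hw.symm).trans ?_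
      rw [map_sum]
      refine Finset.sum_congr rfl fun k _ => ?_
      rw [map_mul, mul_left_comm]
      exact congrArg _ (GrothLib.BlowUp.algebraMap_mul_frac (c : A) (⟨a k, Ideal.subset_span ⟨k, rfl⟩⟩ : ctr a)).symm
    rw [h1]
    exact sum_mem fun k _ => Ideal.mul_mem_left _ _ (H k)
  obtain ⟨q', hq'⟩ := C.overlap _ c t hk
  exact Opens.mem_iSup.2 ⟨k, q', trivial, hq'⟩

/-- The ratios of the generators. -/
def data : Data n b where
  U := U a hb
  φ := φ a hb
  cover := iSup_U a hb
  self := φ_self a hb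
  change := φ_change a hb
  basicOpen_eq := basicOpen_φ a hb

theorem pieceHom_eq (i : Fin (n + 1)) :
    pieceHom (data a hb) i = (ψ a hb i).hom.hom.comp (pres a i).toRingHom := by
  refine MvPolynomial.ringHom_ext (fun r => ?_) fun j => ?_
  · refine (eval₂Hom_C _ _ r).trans ((ψ_algebraMap a hb i r).symm.trans ?_)
    exact congrArg (ψ a hb i).hom ((pres a i).commutes r).symm
  · refine (eval₂Hom_X' _ _ j).trans ?_
    exact congrArg (ψ a hb i).hom (aeval_X (fun j : Var i => fr a i j.1) j).symm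

theorem pieceHom_surjective (i : Fin (n + 1)) : Function.Surjective (pieceHom (data a hb) i) := by
  rw [pieceHom_eq]
  exact (ψ_surjective a hb i).comp (pres_surjective a i)

include hb in
/-- The blow-up in a finitely generated ideal is projective over the base with tautological `O(1)`. -/
theorem exists_closedImmersion :
    ∃ r : X ⟶ CohB1.ProjSpace n A, IsClosedImmersion r ∧ r ≫ CohB1.ProjSpace.toSpec n A = b ∧
      Nonempty ((Scheme.Modules.pullback r).obj (Twist.twistProjSpace n A 1) ≅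
        ClSub.idealMod (_root_.BlowUp.exceptional b (GrothLib.BlowUp.idealSheaf (ctr a)))) :=
  ⟨(data a hb).map, isClosedImmersion_map _ (isAffineOpen_U a hb) (pieceHom_surjective a hb),
    (data a hb).map_toSpec, nonempty_pullback_iso (data a hb) (gen a hb) (isGen_gen a hb) (mres_gen a hb)⟩

end GrothLib.ExcP1
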