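import Groth.Agent.Lib.ExcP1.Affine

/-!
# The exceptional divisor of the blow-up in a regular sequence is projective space over the centre
-/

universe u

set_option backward.isDefEq.respectTransparency false
set_option linter.all false

open AlgebraicGeometry CategoryTheory CategoryTheory.Limits TopologicalSpace Opposite MvPolynomial
open GrothLib.InvExt (mres IsGen)

noncomputable section

namespace GrothLib.ExcP1

open GrothLib.BlowUp17 GrothLib.Ample GrothLib.Ample.ProjMap

variable {A : Type u} [CommRing A] {n : ℕ} (a : Fin (n + 1) → A) {X : Scheme.{u}}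
  {b : X ⟶ Spec (CommRingCat.of A)} (hb : _root_.BlowUp.IsBlowUp b (GrothLib.BlowUp.idealSheaf (ctr a)))

variable (b) in
/-- The exceptional divisor. -/
abbrev exc : X.IdealSheafData := _root_.BlowUp.exceptional b (GrothLib.BlowUp.idealSheaf (ctr a))

variable (b) in
/-- Its inclusion. -/
abbrev excι : (exc a b).subscheme ⟶ X := (exc a b).subschemeι

theorem app_img_eq_res (V : X.Opens) (r : A) :
    (excι a b).app V (img (b := b) V r) =
      res (le_top : excι a b ⁻¹ᵁ V ≤ ⊤) (ProjUP.toGlobal (excι a b ≫ b) r) := by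
  simp only [img, ProjUP.toGlobal, RingHom.comp_apply, Scheme.Hom.comp_appTop, CommRingCat.comp_apply]
  exact ConcreteCategory.congr_hom ((excι a b).naturality (homOfLE (le_top : V ≤ ⊤)).op) _

include hb in
theorem toGlobal_exc_eq_zero {r : A} (hr : r ∈ ctr a) : ProjUP.toGlobal (excι a b ≫ b) r = 0 := by
  have hle : ctr a ≤ RingHom.ker (ProjUP.toGlobal (excι a b ≫ b)) := by
    refine Ideal.span_le.2 ?_
    rintro _ ⟨k, rfl⟩
    show ProjUP.toGlobal (excι a b ≫ b) (a k) = 0
    refine (exc a b).subscheme.sheaf.eq_of_locally_eq' (fun i => excι a b ⁻¹ᵁ U a hb i) ⊤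
      (fun i => homOfLE le_top) (by rw [← Scheme.Hom.preimage_iSup, iSup_U, Scheme.Hom.preimage_top]) _ _ fun i => ?_
    show res (le_top : excι a b ⁻¹ᵁ U a hb i ≤ ⊤) _ = res _ 0
    rw [map_zero, ← app_img_eq_res, ← RingHom.mem_ker]
    refine ((exc a b).ker_subschemeι_app ⟨U a hb i, isAffineOpen_U a hb i⟩).ge ?_
    rw [ideal_U, ← img_mul_φ a hb i k]
    exact Ideal.mul_mem_left _ _ (Ideal.mem_span_singleton_self _)
  exact hle hr

variable {k : Type u} [CommRing k] (π : A →+* k) (hπ : Function.Surjective π) (hker : RingHom.ker π = ctr a)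

/-- The structure map of the constants of the centre. -/
def excConst : k →+* Γ((exc a b).subscheme, ⊤) :=
  π.liftOfSurjective hπ ⟨ProjUP.toGlobal (excι a b ≫ b), fun _ hr => RingHom.mem_ker.2 (toGlobal_exc_eq_zero a hb (hker.le hr))⟩

theorem excConst_apply (r : A) : excConst a hb π hπ hker (π r) = ProjUP.toGlobal (excι a b ≫ b) r :=
  RingHom.liftOfRightInverse_comp_apply π _ (Function.rightInverse_surjInv hπ) _ r

/-- The exceptional divisor over the centre. -/
def toCenter : (exc a b).subscheme ⟶ Spec (CommRingCat.of k) :=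
  (exc a b).subscheme.toSpecΓ ≫ Spec.map (CommRingCat.ofHom (excConst a hb π hπ hker))

theorem toCenter_comp :
    toCenter a hb π hπ hker ≫ Spec.map (CommRingCat.ofHom π) = excι a b ≫ b := by
  rw [eq_toSpecΓ_toGlobal (excι a b ≫ b), toCenter, Category.assoc, ← Spec.map_comp]
  congr 2
  refine CommRingCat.hom_ext (RingHom.ext fun r => ?_)
  exact excConst_apply a hb π hπ hker r

theorem toGlobal_toCenter (x : k) : ProjUP.toGlobal (toCenter a hb π hπ hker) x = excConst a hb π hπ hker x := by
  simp [toCenter, ProjUP.toGlobal]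

theorem res_app_eq {i : Fin (n + 1)} {W : (exc a b).subscheme.Opens} (hW : W ≤ excι a b ⁻¹ᵁ U a hb i)
    (x : Γ(X, U a hb i)) :
    res hW ((excι a b).app (U a hb i) x) = ((excι a b).appLE (U a hb i) W hW).hom x := rfl

/-- The ratios on the exceptional divisor. -/
def excData : Data n (toCenter a hb π hπ hker) where
  U i := excι a b ⁻¹ᵁ U a hb i
  φ i k := (excι a b).app (U a hb i) (φ a hb i k)
  cover := by rw [← Scheme.Hom.preimage_iSup, iSup_U, Scheme.Hom.preimage_top]
  self i := by rw [φ_self, map_one]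
  change i j k W hi hj := by
    have e := φ_change a hb i j k (U a hb i ⊓ U a hb j) inf_le_left inf_le_right
    have hW : W ≤ excι a b ⁻¹ᵁ (U a hb i ⊓ U a hb j) := le_inf hi hj
    have e' := congrArg ((excι a b).appLE _ W hW).hom e
    rw [map_mul, appLE_res, appLE_res, appLE_res] at e'
    exact e'
  basicOpen_eq i j := by
    rw [← Scheme.preimage_basicOpen, basicOpen_φ, Scheme.Hom.preimage_inf]

theorem pieceHom_exc_comp (i : Fin (n + 1)) :
    (pieceHom (excData a hb π hπ hker) i).comp (MvPolynomial.map π) =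
      ((excι a b).app (U a hb i)).hom.comp (pieceHom (data a hb) i) := by
  refine MvPolynomial.ringHom_ext (fun r => ?_) fun j => ?_
  · rw [RingHom.comp_apply, map_C]
    refine ((eval₂Hom_C _ _ _).trans ?_).trans (congrArg ((excι a b).app (U a hb i)) (eval₂Hom_C _ _ r)).symm
    refine (congrArg (res le_top) (toGlobal_toCenter a hb π hπ hker _)).trans ?_
    refine (congrArg (res le_top) (excConst_apply a hb π hπ hker r)).trans ?_
    exact (app_img_eq_res a (U a hb i) r).symm
  · rw [RingHom.comp_apply, map_X]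
    exact (eval₂Hom_X' _ _ j).trans (congrArg ((excι a b).app (U a hb i))
      (eval₂Hom_X' ((res (le_top : U a hb i ≤ ⊤)).comp (ProjUP.toGlobal b)) (fun j : {j // j ≠ i} => φ a hb i j.1) j)).symm

theorem pieceHom_exc_bijective (ha : RingTheory.Sequence.IsWeaklyRegular A (List.ofFn a)) (i : Fin (n + 1)) :
    Function.Bijective (pieceHom (excData a hb π hπ hker) i) := by
  have hcomp := pieceHom_exc_comp a hb π hπ hker i
  refine ⟨?_, ?_⟩
  · rw [injective_iff_map_eq_zero]
    intro P hP
    obtain ⟨Q, rfl⟩ := MvPolynomial.map_surjective π hπ P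
    have h1 := RingHom.congr_fun hcomp Q
    rw [RingHom.comp_apply, hP] at h1
    have h2 : pieceHom (data a hb) i Q ∈ (exc a b).ideal ⟨U a hb i, isAffineOpen_U a hb i⟩ := by
      rw [← (exc a b).ker_subschemeι_app]
      exact RingHom.mem_ker.2 h1.symm
    rw [ideal_U, pieceHom_eq] at h2
    obtain ⟨c, hc⟩ := Ideal.mem_span_singleton'.1 h2
    obtain ⟨c', rfl⟩ := ψ_surjective a hb i c
    have h3 : pres a i Q ∈ Ideal.span {algebraMap A (Chart a i) (a i)} :=
      Ideal.mem_span_singleton'.2 ⟨c', (ConcreteCategory.bijective_of_isIso (ψ a hb i).hom).1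
        (((map_mul (ψ a hb i).hom.hom _ _).trans (congrArg (_ * ·) (ψ_algebraMap a hb i (a i)))).trans hc)⟩
    have h4 := mem_of_pres_mem a i ha Q h3
    rw [mem_map_C_iff] at h4
    ext m
    rw [coeff_map, coeff_zero]
    exact RingHom.mem_ker.1 (hker.ge (h4 m))
  · intro y
    obtain ⟨x, rfl⟩ := (exc a b).subschemeι_app_surjective ⟨U a hb i, isAffineOpen_U a hb i⟩ y
    obtain ⟨P, rfl⟩ := pieceHom_surjective a hb i x
    exact ⟨_, RingHom.congr_fun hcomp P⟩

/-- The generator of the conormal sheaf on a piece. -/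
def excGen (i : Fin (n + 1)) :
    Γ((Scheme.Modules.pullback (excι a b)).obj (I (b := b) a), excι a b ⁻¹ᵁ U a hb i) :=
  GrothLib.BCCoh.pullRes (excι a b) _ (U a hb i) _ le_rfl (gen a hb i)

theorem isGen_excGen (i : Fin (n + 1)) :
    IsGen ((Scheme.Modules.pullback (excι a b)).obj (I (b := b) a)) (excι a b ⁻¹ᵁ U a hb i) (excGen a hb i) :=
  GrothLib.PicAff28.isGen_pullRes _ (GrothLib.IdealModSec.isInvertible_of_isEffCartier hb.1) (isGen_gen a hb i) _ le_rfl

theorem mres_excGen (i k : Fin (n + 1)) (W : (exc a b).subscheme.Opens) (hi : W ≤ excι a b ⁻¹ᵁ U a hb i)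
    (hk : W ≤ excι a b ⁻¹ᵁ U a hb k) :
    mres ((Scheme.Modules.pullback (excι a b)).obj (I (b := b) a)) hk (excGen a hb k) =
      res hi ((excData a hb π hπ hker).φ i k) •
        mres ((Scheme.Modules.pullback (excι a b)).obj (I (b := b) a)) hi (excGen a hb i) := by
  let V := U a hb i ⊓ U a hb k
  have hW : W ≤ excι a b ⁻¹ᵁ V := le_inf hi hk
  have h1 := GrothLib.BCCoh.pullRes_res (excι a b) (I (b := b) a) (inf_le_right : V ≤ U a hb k) le_rfl hW hk
    (gen a hb k)
  have h2 := GrothLib.BCCoh.pullRes_res (excι a b) (I (b := b) a) (inf_le_left : V ≤ U a hb i) le_rfl hW hi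
    (gen a hb i)
  refine h1.trans ?_
  refine (congrArg (GrothLib.BCCoh.pullRes (excι a b) _ V W hW)
    (mres_gen a hb i k V inf_le_left inf_le_right)).trans ?_
  refine (GrothLib.BCCoh.pullRes_smul (excι a b) _ V W hW _ _).trans ?_
  exact congrArg₂ (· • ·) (appLE_res (excι a b) inf_le_left hW _) h2.symm

include hb hπ hker in
/-- The exceptional divisor of the blow-up in a regular sequence of length `n + 1` is projective `n`-space
over the centre, with conormal sheaf `O(1)`. -/
theorem exists_iso_projSpace (ha : RingTheory.Sequence.IsWeaklyRegular A (List.ofFn a)) :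
    ∃ e : CohB1.ProjSpace n k ≅ (exc a b).subscheme,
      e.hom ≫ excι a b ≫ b =
        CohB1.ProjSpace.toSpec n k ≫ Spec.map (CommRingCat.ofHom π) ∧
      Nonempty ((Scheme.Modules.pullback (e.hom ≫ excι a b)).obj (ClSub.idealMod (exc a b)) ≅
        Twist.twistProjSpace n k 1) := by
  let D := excData a hb π hπ hker
  haveI : IsIso D.map := isIso_map D (fun i => (isAffineOpen_U a hb i).preimage _) (pieceHom_exc_bijective a hb π hπ hker ha)
  obtain ⟨τ⟩ := nonempty_pullback_iso D (excGen a hb) (isGen_excGen a hb) (mres_excGen a hb π hπ hker)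
  refine ⟨(asIso D.map).symm, ?_, ⟨?_⟩⟩
  · rw [Iso.symm_hom, asIso_inv, IsIso.inv_comp_eq, ← Category.assoc, D.map_toSpec, toCenter_comp]
  · exact ((Scheme.Modules.pullbackComp (inv D.map) (excι a b)).app (ClSub.idealMod (exc a b))).symm ≪≫
      (Scheme.Modules.pullback (inv D.map)).mapIso τ.symm ≪≫
      (Scheme.Modules.pullbackComp (inv D.map) D.map).app (Twist.twistProjSpace n k 1) ≪≫
      eqToIso (by rw [IsIso.inv_hom_id]) ≪≫
      (Scheme.Modules.pullbackId _).app (Twist.twistProjSpace n k 1)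

include hb in
/-- The exceptional curve of the blow-up in two elements forming a regular sequence and generating a maximal ideal. -/
theorem isExcCurve_exceptional (hn : n = 1) (ha : RingTheory.Sequence.IsWeaklyRegular A (List.ofFn a))
    (hm : (ctr a).IsMaximal) : Models.IsExcCurve (excι a b) := by
  subst hn
  obtain ⟨e, -, ⟨t⟩⟩ := exists_iso_projSpace a hb (Ideal.Quotient.mk (ctr a)) Ideal.Quotient.mk_surjective Ideal.mk_ker ha
  refine ⟨by rw [Scheme.IdealSheafData.ker_subschemeι]; exact hb.1, A ⧸ ctr a, Ideal.Quotient.field (ctr a), e, ⟨?_⟩⟩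
  exact eqToIso (by rw [Scheme.IdealSheafData.ker_subschemeι]) ≪≫ t

end GrothLib.ExcP1
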